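import Groth.Agent.GeomRedFibLib.LocalPropSerre
import Groth.Agent.GeomRedFibLib.DepthEq
import Groth.Agent.LiaisonLib.Basic

/-! # Cutting a ring by a nonzerodivisor, prime by prime -/

set_option autoImplicit false
set_option backward.isDefEq.respectTransparency false
set_option backward.isDefEq.respectTransparency.types false

universe u

open IsLocalRing GeomRedFibLib CommAlgDim

namespace ExtReesLib

variable {R G : Type u} [CommRing R] [CommRing G] (φ : R →+* G) (hφ : Function.Surjective φ)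
  {x : R} (hker : RingHom.ker φ = Ideal.span {x})

include hφ hker in
theorem quot_equiv (q : Ideal G) [q.IsPrime] :
    Nonempty ((Localization.AtPrime (q.comap φ) ⧸
      Ideal.span {algebraMap R (Localization.AtPrime (q.comap φ)) x}) ≃+* Localization.AtPrime q) := by
  let I := Ideal.span {x}
  let p := q.comap φ
  have hle : I ≤ p := fun y hy => by
    show φ y ∈ q
    rw [RingHom.mem_ker.1 (hker.ge hy)]
    exact q.zero_mem
  obtain ⟨hpr, ⟨e⟩⟩ := LiaisonLib.exists_quot_equiv hle
  let ψ : (R ⧸ I) ≃+* G :=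
    (Ideal.quotEquivOfEq hker.symm).trans (RingHom.quotientKerEquivOfSurjective hφ)
  have hψ : ∀ y, ψ (Ideal.Quotient.mk I y) = φ y := fun y => rfl
  have hmap : (p.map (Ideal.Quotient.mk I)).primeCompl.map ψ.toMonoidHom = q.primeCompl := by
    ext y
    constructor
    · rintro ⟨z, hz, rfl⟩ hy
      obtain ⟨z, rfl⟩ := Ideal.Quotient.mk_surjective z
      exact hz (Ideal.mem_map_of_mem _ hy)
    · intro hy
      obtain ⟨z, rfl⟩ := hφ y
      refine ⟨Ideal.Quotient.mk I z, fun hz => hy ?_, hψ z⟩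
      change Ideal.Quotient.mk I z ∈ p.map _ at hz
      rw [← Ideal.mem_comap, Ideal.comap_map_mk hle] at hz
      exact hz
  exact ⟨((Ideal.quotEquivOfEq (by rw [Ideal.map_span, Set.image_singleton])).trans e).trans
    (IsLocalization.ringEquivOfRingEquiv (M := (p.map (Ideal.Quotient.mk I)).primeCompl) (T := q.primeCompl)
      (Localization.AtPrime (p.map (Ideal.Quotient.mk I))) (Localization.AtPrime q) ψ hmap)⟩

theorem isSMulRegular_loc (hx : x ∈ nonZeroDivisors R) (p : Ideal R) [p.IsPrime] :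
    IsSMulRegular (Localization.AtPrime p) (algebraMap R (Localization.AtPrime p) x) := by
  suffices ∀ z, algebraMap R (Localization.AtPrime p) x * z = 0 → z = 0 from
    fun y z h => sub_eq_zero.1 (this _ (by rw [mul_sub]; exact sub_eq_zero.2 h))
  intro z hz
  obtain ⟨a, s, rfl⟩ := IsLocalization.exists_mk'_eq p.primeCompl z
  rw [IsLocalization.mul_mk'_eq_mk'_of_mul, IsLocalization.mk'_eq_zero_iff] at hz
  rw [IsLocalization.mk'_eq_zero_iff]
  obtain ⟨t, ht⟩ := hz
  exact ⟨t, (mem_nonZeroDivisors_iff_right.1 hx) _ (by rw [← ht]; ring)⟩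

variable [IsNoetherianRing R] {P P' : ∀ (S : Type u) [CommRing S], Prop}
  (congr' : ∀ (S T : Type u) [CommRing S] [CommRing T], (S ≃+* T) → P' S → P' T)

include hφ hker congr' in
/-- Lifting along the quotient. -/
theorem up (hx : x ∈ nonZeroDivisors R)
    (step : ∀ (B : Type u) [CommRing B] [IsLocalRing B] [IsNoetherianRing B] (y : B), IsSMulRegular B y →
      y ∈ maximalIdeal B → P' (B ⧸ Ideal.span {y}) → P B)
    (p : Ideal R) [p.IsPrime] (hxp : x ∈ p) (hG : ∀ (q : Ideal G) [q.IsPrime], q.comap φ = p →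
      P' (Localization.AtPrime q)) : P (Localization.AtPrime p) := by
  have hker' : RingHom.ker φ ≤ p := hker.le.trans ((Ideal.span_singleton_le_iff_mem _).2 hxp)
  haveI hq : (p.map φ).IsPrime := Ideal.map_isPrime_of_surjective hφ hker'
  have hpq : (p.map φ).comap φ = p := by
    rw [Ideal.comap_map_of_surjective φ hφ, ← RingHom.ker_eq_comap_bot, sup_eq_left.2 hker']
  obtain ⟨e⟩ := quot_equiv φ hφ hker (p.map φ)
  haveI : IsNoetherianRing (Localization.AtPrime ((p.map φ).comap φ)) :=
    IsLocalization.isNoetherianRing ((p.map φ).comap φ).primeCompl _ inferInstance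
  have h := step (Localization.AtPrime ((p.map φ).comap φ)) _ (isSMulRegular_loc hx _)
    ((IsLocalization.AtPrime.to_map_mem_maximal_iff _ ((p.map φ).comap φ) x).2 (by rw [hpq]; exact hxp))
    (congr' _ _ e.symm (hG (p.map φ) hpq))
  have hcast : ∀ (p₀ : Ideal R) [p₀.IsPrime], p₀ = p → P (Localization.AtPrime p₀) → P (Localization.AtPrime p) := by
    intro p₀ _ h₀
    subst h₀
    exact id
  exact hcast _ hpq h

include hφ hker congr' in
/-- Descending along the quotient. -/
theorem down (hx : x ∈ nonZeroDivisors R)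
    (step : ∀ (B : Type u) [CommRing B] [IsLocalRing B] [IsNoetherianRing B] (y : B), IsSMulRegular B y →
      y ∈ maximalIdeal B → P B → P' (B ⧸ Ideal.span {y}))
    (q : Ideal G) [q.IsPrime] (hR : P (Localization.AtPrime (q.comap φ))) : P' (Localization.AtPrime q) := by
  obtain ⟨e⟩ := quot_equiv φ hφ hker q
  haveI : IsNoetherianRing (Localization.AtPrime (q.comap φ)) :=
    IsLocalization.isNoetherianRing (q.comap φ).primeCompl _ inferInstance
  refine congr' _ _ e (step _ _ (isSMulRegular_loc hx _)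
    ((IsLocalization.AtPrime.to_map_mem_maximal_iff _ (q.comap φ) x).2 ?_) hR)
  rw [Ideal.mem_comap, show φ x = 0 from RingHom.mem_ker.1 (hker.ge (Ideal.mem_span_singleton_self x))]
  exact q.zero_mem

theorem cm_up (B : Type u) [CommRing B] [IsLocalRing B] [IsNoetherianRing B] (y : B) (hy : IsSMulRegular B y)
    (hym : y ∈ maximalIdeal B) (h : LocCoh.IsCohenMacaulayLocalRing (B ⧸ Ideal.span {y})) :
    LocCoh.IsCohenMacaulayLocalRing B := by
  haveI := h
  exact SMTLib.isCohenMacaulayLocalRing_of_isCM _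
    ((CMFlatLib.isCM_quotient_iff hy hym).1 (SMTLib.isCM_of_isCohenMacaulayLocalRing _))

theorem cm_down (B : Type u) [CommRing B] [IsLocalRing B] [IsNoetherianRing B] (y : B) (hy : IsSMulRegular B y)
    (hym : y ∈ maximalIdeal B) (h : LocCoh.IsCohenMacaulayLocalRing B) :
    LocCoh.IsCohenMacaulayLocalRing (B ⧸ Ideal.span {y}) := by
  haveI := h
  haveI : IsLocalRing (B ⧸ Ideal.span {y}) := GorLib.isLocalRing_quotient
    (ne_top_of_le_ne_top (Ideal.IsMaximal.ne_top inferInstance) ((Ideal.span_singleton_le_iff_mem _).2 hym))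
  exact SMTLib.isCohenMacaulayLocalRing_of_isCM _
    ((CMFlatLib.isCM_quotient_iff hy hym).2 (SMTLib.isCM_of_isCohenMacaulayLocalRing _))

theorem sk_up (n : ℕ) (B : Type u) [CommRing B] [IsLocalRing B] [IsNoetherianRing B] (y : B) (hy : IsSMulRegular B y)
    (hym : y ∈ maximalIdeal B) (h : SkLoc n (B ⧸ Ideal.span {y})) : SkLoc (n + 1) B := by
  obtain ⟨_, _, h⟩ := h
  obtain ⟨d, hd⟩ := exists_ringKrullDim_eq (R := B ⧸ Ideal.span {y})
  have hB := ringKrullDim_quotient_span_singleton_succ_eq_ringKrullDim hy hym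
  rw [hd] at hB h
  refine ⟨inferInstance, inferInstance, ?_⟩
  rw [← hB]
  have e : ∀ a b : ℕ, min ((a : WithBot ℕ∞)) (b : WithBot ℕ∞) = (((min a b : ℕ) : ℕ∞) : WithBot ℕ∞) := fun a b => by
    rcases le_total a b with h | h
    · rw [min_eq_left h, min_eq_left (Nat.cast_le.2 h)]; rfl
    · rw [min_eq_right h, min_eq_right (Nat.cast_le.2 h)]; rfl
  rw [e] at h
  rw [show ((d : WithBot ℕ∞) + 1) = ((d + 1 : ℕ) : WithBot ℕ∞) by push_cast; rfl, e, Nat.add_min_add_right]
  obtain ⟨rs, hl, hm, hr⟩ := (le_depth_iff _).1 (WithBot.coe_le_coe.1 h)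
  refine WithBot.coe_le_coe.2 ((le_depth_iff _).2 ?_)
  choose l hl' using fun r : B ⧸ Ideal.span {y} => Ideal.Quotient.mk_surjective r
  refine ⟨y :: rs.map l, by simp [hl], fun r hr' => ?_, ?_⟩
  · rcases List.mem_cons.1 hr' with rfl | hr'
    · exact hym
    · obtain ⟨a, ha, rfl⟩ := List.mem_map.1 hr'
      by_contra hu
      exact (mem_maximalIdeal _).1 (hm a ha) (hl' a ▸ (notMem_maximalIdeal.1 hu).map _)
  · refine GorLib.isWeaklyRegular_cons_ring.2 ⟨hy, ?_⟩
    rwa [List.map_map, show (Ideal.Quotient.mk (Ideal.span {y})) ∘ l = id from funext hl', List.map_id]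

theorem sk_down (n : ℕ) (B : Type u) [CommRing B] [IsLocalRing B] [IsNoetherianRing B] (y : B) (hy : IsSMulRegular B y)
    (hym : y ∈ maximalIdeal B) (h : SkLoc (n + 1) B) : SkLoc n (B ⧸ Ideal.span {y}) := by
  obtain ⟨_, _, h⟩ := h
  haveI : IsLocalRing (B ⧸ Ideal.span {y}) := GorLib.isLocalRing_quotient
    (ne_top_of_le_ne_top (Ideal.IsMaximal.ne_top inferInstance) ((Ideal.span_singleton_le_iff_mem _).2 hym))
  obtain ⟨d, hd⟩ := exists_ringKrullDim_eq (R := B ⧸ Ideal.span {y})
  have hB := ringKrullDim_quotient_span_singleton_succ_eq_ringKrullDim hy hym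
  rw [hd] at hB
  rw [← hB] at h
  have e : ∀ a b : ℕ, min ((a : WithBot ℕ∞)) (b : WithBot ℕ∞) = (((min a b : ℕ) : ℕ∞) : WithBot ℕ∞) := fun a b => by
    rcases le_total a b with h | h
    · rw [min_eq_left h, min_eq_left (Nat.cast_le.2 h)]; rfl
    · rw [min_eq_right h, min_eq_right (Nat.cast_le.2 h)]; rfl
  rw [show ((d : WithBot ℕ∞) + 1) = ((d + 1 : ℕ) : WithBot ℕ∞) by push_cast; rfl, e, Nat.add_min_add_right] at h
  refine ⟨inferInstance, inferInstance, ?_⟩
  rw [hd, e]
  exact WithBot.coe_le_coe.2 ((le_depth_iff _).2 (GeomRedFibLib.hasSeqIn_quotient hym hy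
    ((le_depth_iff _).1 (WithBot.coe_le_coe.1 h))))

theorem skLoc_of_regular (n : ℕ) (B : Type u) [CommRing B] [IsRegularLocalRing B] : SkLoc n B := by
  obtain ⟨d, hd⟩ := exists_ringKrullDim_eq (R := B)
  refine ⟨inferInstance, inferInstance, (min_le_right _ _).trans ?_⟩
  rw [hd]
  exact WithBot.coe_le_coe.2 (CMFlatLib.le_depth_of_isCM (isCM_of_isRegularLocalRing B) hd.ge)

end ExtReesLib
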