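import Groth.Agent.ExtReesLib.Local
import Groth.Agent.ExtReesLib.Quot

/-! # Cohen–Macaulay, Gorenstein and `(S₂)` extended Rees algebras -/

set_option autoImplicit false
set_option backward.isDefEq.respectTransparency false
set_option backward.isDefEq.respectTransparency.types false

universe u

open IsLocalRing LaurentPolynomial GeomRedFibLib CommAlgDim

namespace ExtReesLib

variable {A : Type u} [CommRing A] [IsNoetherianRing A] (𝓕 : FiltBl.IdealFiltration A)

/-- The prime-by-prime criterion. -/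
theorem ringP_of_gr {P P' : ∀ (R : Type u) [CommRing R], Prop} (hP : IsFlatLocalProp P)
    (congr' : ∀ (S T : Type u) [CommRing S] [CommRing T], (S ≃+* T) → P' S → P' T)
    (step : ∀ (B : Type u) [CommRing B] [IsLocalRing B] [IsNoetherianRing B] (y : B), IsSMulRegular B y →
      y ∈ maximalIdeal B → P' (B ⧸ Ideal.span {y}) → P B)
    (hreg : ∀ (R : Type u) [CommRing R] [IsRegularLocalRing R], P R)
    (hfg : Algebra.FiniteType A 𝓕.rees) (hA : RingP P A) (hG : RingP P' 𝓕.Gr) : RingP P 𝓕.extRees := by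
  haveI := isNoetherianRing_extRees 𝓕 hfg
  intro p _
  by_cases hu : 𝓕.u ∈ p
  · exact up (Ideal.Quotient.mk (Ideal.span {𝓕.u})) Ideal.Quotient.mk_surjective Ideal.mk_ker congr'
      (u_mem_nonZeroDivisors 𝓕) step p hu fun q _ _ => hG q
  · exact of_notMem 𝓕 hP p hu fun Q _ _ => ringP_laurent hP hreg hA Q

theorem gr_of_ringP {P P' : ∀ (R : Type u) [CommRing R], Prop}
    (congr' : ∀ (S T : Type u) [CommRing S] [CommRing T], (S ≃+* T) → P' S → P' T)
    (step : ∀ (B : Type u) [CommRing B] [IsLocalRing B] [IsNoetherianRing B] (y : B), IsSMulRegular B y →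
      y ∈ maximalIdeal B → P B → P' (B ⧸ Ideal.span {y}))
    (hfg : Algebra.FiniteType A 𝓕.rees) (h : RingP P 𝓕.extRees) : RingP P' 𝓕.Gr := by
  haveI := isNoetherianRing_extRees 𝓕 hfg
  intro q _
  exact down (Ideal.Quotient.mk (Ideal.span {𝓕.u})) Ideal.Quotient.mk_surjective Ideal.mk_ker congr'
    (u_mem_nonZeroDivisors 𝓕) step q (h _)

/-- The base inherits a localisable property of the associated graded ring. -/
theorem base_of_gr [IsLocalRing A] {P : ∀ (R : Type u) [CommRing R], Prop} (hP : IsFlatLocalProp P)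
    (desc : ∀ (B C : Type u) [CommRing B] [IsLocalRing B] [IsNoetherianRing B] [CommRing C] [IsLocalRing C]
      [IsNoetherianRing C] [Algebra B C] [IsLocalHom (algebraMap B C)] [Module.Flat B C], P C → P B)
    (gen : ∀ (B : Type u) [CommRing B] [IsLocalRing B] [IsNoetherianRing B], P B → RingP P B)
    (step : ∀ (B : Type u) [CommRing B] [IsLocalRing B] [IsNoetherianRing B] (y : B), IsSMulRegular B y →
      y ∈ maximalIdeal B → P (B ⧸ Ideal.span {y}) → P B)
    (hfg : Algebra.FiniteType A 𝓕.rees) (hsep : ⨅ n, 𝓕.F n = ⊥) (hG : RingP P 𝓕.Gr) : RingP P A := by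
  haveI := isNoetherianRing_extRees 𝓕 hfg
  haveI := isNoetherianRing_laurent (A := A)
  obtain ⟨Q, _, M, hM, hQm, hu, hQM⟩ := exists_maximal 𝓕 (F_one_ne_top 𝓕 hsep)
  have hRM : P (Localization.AtPrime M) :=
    up (Ideal.Quotient.mk (Ideal.span {𝓕.u})) Ideal.Quotient.mk_surjective Ideal.mk_ker hP.congr
      (u_mem_nonZeroDivisors 𝓕) step M hu fun q _ _ => hG q
  let p := Q.comap (algebraMap 𝓕.extRees A[T;T⁻¹])
  haveI : p.IsPrime := Ideal.IsPrime.comap _
  haveI : IsNoetherianRing (Localization.AtPrime M) := IsLocalization.isNoetherianRing M.primeCompl _ inferInstance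
  have hdisj : Disjoint (M.primeCompl : Set 𝓕.extRees) p := Set.disjoint_left.2 fun x hx hxp => hx (hQM hxp)
  let p' := p.map (algebraMap 𝓕.extRees (Localization.AtPrime M))
  haveI : p'.IsPrime := IsLocalization.isPrime_of_isPrime_disjoint M.primeCompl _ p inferInstance hdisj
  have hp' : p'.comap (algebraMap 𝓕.extRees (Localization.AtPrime M)) = p :=
    IsLocalization.comap_map_of_isPrime_disjoint M.primeCompl _ inferInstance hdisj
  haveI : IsLocalization.AtPrime (Localization.AtPrime p') p := by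
    have h1 : IsLocalization.AtPrime (Localization.AtPrime p') (p'.comap (algebraMap 𝓕.extRees (Localization.AtPrime M))) :=
      IsLocalization.isLocalization_isLocalization_atPrime_isLocalization M.primeCompl _ p'
    simpa only [hp'] using h1
  haveI := isLocalization_laurent 𝓕
  haveI : IsLocalization.AtPrime (Localization.AtPrime Q) p :=
    IsLocalization.isLocalization_isLocalization_atPrime_isLocalization (Submonoid.powers 𝓕.u) _ Q
  have hQ : P (Localization.AtPrime Q) := hP.congr _ _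
    (IsLocalization.algEquiv p.primeCompl (Localization.AtPrime p') (Localization.AtPrime Q)).toRingEquiv
    (gen _ hRM p')
  haveI : IsLocalHom (algebraMap A (Localization.AtPrime Q)) := ⟨fun a ha => by
    by_contra hn
    have h1 : algebraMap A A[T;T⁻¹] a ∈ Q := by
      rw [← Ideal.mem_comap, hQm]; exact (mem_maximalIdeal a).2 hn
    rw [IsScalarTower.algebraMap_apply A A[T;T⁻¹] (Localization.AtPrime Q)] at ha
    exact (IsLocalization.AtPrime.isUnit_to_map_iff (Localization.AtPrime Q) Q _).1 ha h1⟩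
  haveI : IsNoetherianRing (Localization.AtPrime Q) := IsLocalization.isNoetherianRing Q.primeCompl _ inferInstance
  haveI : Module.Flat A[T;T⁻¹] (Localization.AtPrime Q) := IsLocalization.flat _ Q.primeCompl
  haveI : Module.Flat A (Localization.AtPrime Q) := Module.Flat.trans A A[T;T⁻¹] (Localization.AtPrime Q)
  exact gen A (desc A (Localization.AtPrime Q) hQ)

theorem cm_gen (B : Type u) [CommRing B] [IsLocalRing B] [IsNoetherianRing B]
    (h : LocCoh.IsCohenMacaulayLocalRing B) : RingP CMLoc B := fun q _ => by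
  haveI := h
  haveI : IsNoetherianRing (Localization.AtPrime q) := IsLocalization.isNoetherianRing q.primeCompl _ inferInstance
  exact SMTLib.isCohenMacaulayLocalRing_of_isCM _
    (CatLib.isCM_localization (SMTLib.isCM_of_isCohenMacaulayLocalRing B) q)

theorem cm_desc (B C : Type u) [CommRing B] [IsLocalRing B] [IsNoetherianRing B] [CommRing C] [IsLocalRing C]
    [IsNoetherianRing C] [Algebra B C] [IsLocalHom (algebraMap B C)] [Module.Flat B C]
    (h : LocCoh.IsCohenMacaulayLocalRing C) : LocCoh.IsCohenMacaulayLocalRing B :=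
  (CMFlatLib.isCohenMacaulayLocalRing_iff_isCM B).mpr
    ((CMFlatLib.isCM_flat_iff B C).mp ((CMFlatLib.isCohenMacaulayLocalRing_iff_isCM C).mp h)).1

/-- The extended Rees algebra is Cohen–Macaulay iff the associated graded ring is. -/
theorem cm_iff [IsLocalRing A] (hfg : Algebra.FiniteType A 𝓕.rees) (hsep : ⨅ n, 𝓕.F n = ⊥) :
    LocCoh.IsCohenMacaulayRing 𝓕.extRees ↔ LocCoh.IsCohenMacaulayRing 𝓕.Gr := by
  haveI := isNoetherianRing_extRees 𝓕 hfg
  rw [GeomRedFibLib.isCohenMacaulayRing_iff, GeomRedFibLib.isCohenMacaulayRing_iff]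
  refine ⟨fun h => gr_of_ringP 𝓕 isFlatLocalProp_cm.congr cm_down hfg h,
    fun hG => ringP_of_gr 𝓕 isFlatLocalProp_cm isFlatLocalProp_cm.congr cm_up (fun R _ _ => ?_) hfg ?_ hG⟩
  · exact SMTLib.isCohenMacaulayLocalRing_of_isCM _ (isCM_of_isRegularLocalRing R)
  · exact base_of_gr 𝓕 isFlatLocalProp_cm cm_desc cm_gen cm_up hfg hsep hG

/-- The extended Rees algebra is Gorenstein iff the associated graded ring is. -/
theorem gorenstein_iff [IsLocalRing A] (hfg : Algebra.FiniteType A 𝓕.rees) (hsep : ⨅ n, 𝓕.F n = ⊥) :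
    LocCoh.IsGorensteinRing 𝓕.extRees ↔ LocCoh.IsGorensteinRing 𝓕.Gr := by
  haveI := isNoetherianRing_extRees 𝓕 hfg
  have up' : ∀ (B : Type u) [CommRing B] [IsLocalRing B] [IsNoetherianRing B] (y : B), IsSMulRegular B y →
      y ∈ maximalIdeal B → LocCoh.IsGorensteinLocalRing (B ⧸ Ideal.span {y}) → LocCoh.IsGorensteinLocalRing B :=
    fun B _ _ _ y hy hym h => (GorLib.gorenstein_quotient_iff hy hym).2 h
  constructor
  · intro h
    haveI := h
    have hGr : RingP (fun (R : Type u) [CommRing R] => LocCoh.IsGorensteinLocalRing R) 𝓕.Gr :=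
      gr_of_ringP 𝓕 (P := fun (R : Type u) [CommRing R] => LocCoh.IsGorensteinLocalRing R)
        isGorenstein_flatLocalProp.congr
        (fun B _ _ _ y hy hym hB => (GorLib.gorenstein_quotient_iff hy hym).1 hB) hfg
        (fun p _ => h.isGorensteinLocalRing_localization p)
    exact { isGorensteinLocalRing_localization := fun q _ => hGr q }
  · intro hG
    haveI := hG
    have hG' : RingP (fun (R : Type u) [CommRing R] => LocCoh.IsGorensteinLocalRing R) 𝓕.Gr :=
      fun q _ => hG.isGorensteinLocalRing_localization q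
    have hA : RingP (fun (R : Type u) [CommRing R] => LocCoh.IsGorensteinLocalRing R) A :=
      base_of_gr 𝓕 isGorenstein_flatLocalProp
        (fun B C _ _ _ _ _ _ _ _ _ h => ((GorLib.gorenstein_flat_iff B C).1 h).1)
        (fun B _ _ _ h q _ => by
          haveI : LocCoh.IsGorensteinLocalRing B := h
          exact (FalLib.isGorensteinRing_of_local B).isGorensteinLocalRing_localization q) up' hfg hsep hG'
    have hR : RingP (fun (R : Type u) [CommRing R] => LocCoh.IsGorensteinLocalRing R) 𝓕.extRees :=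
      ringP_of_gr 𝓕 isGorenstein_flatLocalProp isGorenstein_flatLocalProp.congr up'
        (fun R _ _ => Groth.Agent.S0342.result R) hfg hA hG'
    exact { isGorensteinLocalRing_localization := fun p _ => hR p }

/-- `(S₂)` for the extended Rees algebra. -/
theorem sk_two_iff [Nontrivial A] (hfg : Algebra.FiniteType A 𝓕.rees) :
    LocCoh.HasSk 2 𝓕.extRees 𝓕.extRees ↔ (LocCoh.HasSk 1 𝓕.Gr 𝓕.Gr ∧ LocCoh.HasSk 2 A A) := by
  haveI := isNoetherianRing_extRees 𝓕 hfg
  rw [GeomRedFibLib.hasSk_iff, GeomRedFibLib.hasSk_iff, GeomRedFibLib.hasSk_iff]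
  exact ⟨fun h => ⟨gr_of_ringP 𝓕 (isFlatLocalProp_skLoc 1).congr (sk_down 1) hfg h,
      ringP_of_laurent (isFlatLocalProp_skLoc 2) (ringP_laurent_of_extRees 𝓕 (isFlatLocalProp_skLoc 2) h)⟩,
    fun ⟨hG, hA⟩ => ringP_of_gr 𝓕 (isFlatLocalProp_skLoc 2) (isFlatLocalProp_skLoc 1).congr (sk_up 1)
      (skLoc_of_regular 2) hfg hA hG⟩

/-- The Cohen–Macaulay locus away from the positive part. -/
theorem cm_off_iff (hfg : Algebra.FiniteType A 𝓕.rees) {G : Type u} [CommRing G] (φ : 𝓕.extRees →+* G)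
    (hφ : Function.Surjective φ) (hker : RingHom.ker φ = Ideal.span {𝓕.u}) (Rp : Ideal 𝓕.extRees)
    (hRp : Rp = Ideal.span {x : 𝓕.extRees | ∃ n : ℕ, 0 < n ∧ ∃ a ∈ 𝓕.F n, (x : A[T;T⁻¹]) = C a * T (n : ℤ)}) :
    (∀ (P : Ideal 𝓕.extRees) [P.IsPrime], ¬ Rp ≤ P →
        LocCoh.IsCohenMacaulayLocalRing (Localization.AtPrime P)) ↔
      ((∀ (p : Ideal G) [p.IsPrime], ¬ Ideal.map φ Rp ≤ p →
          LocCoh.IsCohenMacaulayLocalRing (Localization.AtPrime p)) ∧
        (∀ (q : Ideal A) [q.IsPrime], ¬ 𝓕.F 1 ≤ q →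
            LocCoh.IsCohenMacaulayLocalRing (Localization.AtPrime q))) := by
  haveI := isNoetherianRing_extRees 𝓕 hfg
  haveI := isNoetherianRing_laurent (A := A)
  haveI := isLocalization_laurent 𝓕
  subst hRp
  constructor
  · intro h
    refine ⟨fun p _ hp => down φ hφ hker isFlatLocalProp_cm.congr (u_mem_nonZeroDivisors 𝓕) cm_down p
      (h _ fun hle => hp (Ideal.map_le_iff_le_comap.2 hle)), fun q _ hq => ?_⟩
    haveI : Nontrivial A := nontrivial_of_ne (0 : A) 1 fun h0 => ‹q.IsPrime›.ne_top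
      ((Ideal.eq_top_iff_one q).2 (h0 ▸ q.zero_mem))
    obtain ⟨⟨Q, hQp⟩, hQ⟩ := PrimeSpectrum.comap_surjective_of_faithfullyFlat (A := A) (B := A[T;T⁻¹]) ⟨q, inferInstance⟩
    have hQq : Q.comap (algebraMap A A[T;T⁻¹]) = q := congrArg PrimeSpectrum.asIdeal hQ
    subst hQq
    let p := Q.comap (algebraMap 𝓕.extRees A[T;T⁻¹])
    haveI : p.IsPrime := Ideal.IsPrime.comap _
    have hu : 𝓕.u ∉ p := fun hu => hQp.ne_top (Ideal.eq_top_of_isUnit_mem _ hu
      (IsLocalization.Away.algebraMap_isUnit (S := A[T;T⁻¹]) 𝓕.u))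
    haveI : IsLocalization.AtPrime (Localization.AtPrime Q) p :=
      IsLocalization.isLocalization_isLocalization_atPrime_isLocalization (Submonoid.powers 𝓕.u) _ Q
    exact ((CMFlatLib.cm_localization_flat_iff (R := A) Q).1 (isFlatLocalProp_cm.congr _ _
      (IsLocalization.algEquiv p.primeCompl (Localization.AtPrime p) (Localization.AtPrime Q)).toRingEquiv
      (h p fun hle => hq ((mem_prime_iff_F_one 𝓕 p hu Q rfl).1 hle)))).1
  · rintro ⟨hG, hA⟩ p _ hp
    by_cases hu : 𝓕.u ∈ p
    · exact up φ hφ hker isFlatLocalProp_cm.congr (u_mem_nonZeroDivisors 𝓕) cm_up p hu fun q _ hqp =>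
        hG q fun hle => hp (hqp ▸ Ideal.map_le_iff_le_comap.1 hle)
    · refine of_notMem 𝓕 isFlatLocalProp_cm p hu fun Q _ hQ => ?_
      have hAq := hA (Q.comap (algebraMap A A[T;T⁻¹])) fun hle => hp ((mem_prime_iff_F_one 𝓕 p hu Q hQ).2 hle)
      refine (CMFlatLib.cm_localization_iff_of_fibre (R := A) Q ?_).1 hAq
      haveI : IsNoetherianRing ((Q.comap (algebraMap A A[T;T⁻¹])).ResidueField)[T;T⁻¹] := isNoetherianRing_laurent
      haveI : IsNoetherianRing ((Q.comap (algebraMap A A[T;T⁻¹])).Fiber A[T;T⁻¹]) := isNoetherianRing_of_ringEquiv _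
        (AddMonoidAlgebra.scalarTensorEquiv (M := ℤ) A (Q.comap (algebraMap A A[T;T⁻¹])).ResidueField).symm.toRingEquiv
      have hR : RingP (fun (R : Type u) [CommRing R] => LocCoh.IsGorensteinLocalRing R)
          ((Q.comap (algebraMap A A[T;T⁻¹])).Fiber A[T;T⁻¹]) :=
        RingP.congr isGorenstein_flatLocalProp
          (AddMonoidAlgebra.scalarTensorEquiv (M := ℤ) A (Q.comap (algebraMap A A[T;T⁻¹])).ResidueField).symm.toRingEquiv
          (ringP_laurent_field isGorenstein_flatLocalProp (fun R _ _ => Groth.Agent.S0342.result R) _)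
      exact { isGorensteinLocalRing_localization := fun r _ => hR r }

end ExtReesLib
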