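import Groth.Agent.GeomRedFibLib.LocalPropInst
import Groth.Agent.GeomRedFibLib.LocalPropSerre
import Groth.Agent.GeomRedFibLib.DepthEq
import Groth.Agent.GorLib.Fibres
import Groth.Agent.FalLib.GorKills
import Groth.Agent.LiaisonLib.Basic
import Groth.Prelude.Def_W4c2filtblowupsingRees
import Mathlib.RingTheory.TensorProduct.MonoidAlgebra
import Mathlib.RingTheory.RegularLocalRing.Polynomial
import Mathlib.Algebra.Polynomial.Laurent

/-! # The local rings of an extended Rees algebra -/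

set_option autoImplicit false
set_option backward.isDefEq.respectTransparency false
set_option backward.isDefEq.respectTransparency.types false

universe u

open IsLocalRing LaurentPolynomial GeomRedFibLib CommAlgDim

namespace ExtReesLib

variable {A : Type u} [CommRing A] (𝓕 : FiltBl.IdealFiltration A)

theorem single_mem (a : A) (n : ℤ) (ha : a ∈ 𝓕.F n.toNat) : (C a * T n : A[T;T⁻¹]) ∈ 𝓕.extRees := by
  intro m
  rw [← single_eq_C_mul_T, AddMonoidAlgebra.coeff_single, Finsupp.single_apply]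
  split_ifs with h
  · subst h; exact ha
  · exact zero_mem _

theorem single_mem_of_nonpos (a : A) (n : ℤ) (hn : n ≤ 0) : (C a * T n : A[T;T⁻¹]) ∈ 𝓕.extRees :=
  single_mem 𝓕 a n (by rw [Int.toNat_eq_zero.2 hn, 𝓕.zero_eq]; trivial)

theorem u_pow (n : ℕ) : ((𝓕.u ^ n : 𝓕.extRees) : A[T;T⁻¹]) = T (-(n : ℤ)) := by
  rw [SubmonoidClass.coe_pow]
  show T (-1) ^ n = _
  rw [T_pow, mul_neg_one]

theorem isLocalization_laurent : IsLocalization.Away 𝓕.u A[T;T⁻¹] := by
  refine (isLocalization_iff (Submonoid.powers 𝓕.u) A[T;T⁻¹]).2 ⟨?_, fun z => ?_, fun {x y} h => ⟨1, ?_⟩⟩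
  · rintro ⟨_, n, rfl⟩
    show IsUnit ((𝓕.u ^ n : 𝓕.extRees) : A[T;T⁻¹])
    rw [u_pow]
    exact isUnit_T _
  · suffices ∃ (N : ℕ), z * T (-(N : ℤ)) ∈ 𝓕.extRees by
      obtain ⟨N, hN⟩ := this
      refine ⟨(⟨_, hN⟩, ⟨𝓕.u ^ N, N, rfl⟩), ?_⟩
      show z * ((𝓕.u ^ N : 𝓕.extRees) : A[T;T⁻¹]) = _
      rw [u_pow]
      rfl
    induction z using LaurentPolynomial.induction_on' with
    | add p q hp hq =>
      obtain ⟨N₁, h₁⟩ := hp
      obtain ⟨N₂, h₂⟩ := hq
      have hT : ∀ k : ℕ, (T (-(k : ℤ)) : A[T;T⁻¹]) ∈ 𝓕.extRees := fun k => by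
        rw [← u_pow 𝓕 k]; exact (𝓕.u ^ k).2
      refine ⟨N₁ + N₂, ?_⟩
      rw [show -(((N₁ + N₂ : ℕ)) : ℤ) = -(N₁ : ℤ) + -(N₂ : ℤ) by push_cast; ring, T_add, add_mul]
      refine add_mem ?_ ?_
      · rw [← mul_assoc]; exact mul_mem h₁ (hT N₂)
      · rw [mul_comm (T (-(N₁ : ℤ))), ← mul_assoc]; exact mul_mem h₂ (hT N₁)
    | C_mul_T n a =>
      refine ⟨n.toNat, ?_⟩
      rw [mul_assoc, ← T_add]
      exact single_mem_of_nonpos 𝓕 a _ (by omega)
  · rw [Subtype.ext h]

theorem F_one_ne_top (hsep : ⨅ n, 𝓕.F n = ⊥) [Nontrivial A] : 𝓕.F 1 ≠ ⊤ := by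
  intro h
  have h1 : ∀ n, 𝓕.F n = ⊤ := fun n => by
    induction n with
    | zero => exact 𝓕.zero_eq
    | succ n ih =>
      refine top_le_iff.1 ?_
      calc (⊤ : Ideal A) = 𝓕.F n * 𝓕.F 1 := by rw [ih, h, Ideal.top_mul]
        _ ≤ 𝓕.F (n + 1) := 𝓕.mul_le n 1
  simp only [h1, iInf_const] at hsep
  exact top_ne_bot hsep

variable [IsNoetherianRing A]

theorem isNoetherianRing_laurent : IsNoetherianRing A[T;T⁻¹] :=
  IsLocalization.isNoetherianRing (Submonoid.powers (Polynomial.X : Polynomial A)) _ inferInstance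

theorem isNoetherianRing_extRees (hfg : Algebra.FiniteType A 𝓕.rees) : IsNoetherianRing 𝓕.extRees := by
  classical
  let ι : 𝓕.rees →ₐ[A] A[T;T⁻¹] := (Polynomial.toLaurentAlg).comp 𝓕.rees.val
  have hι : ι.range.FG := by
    rw [← Algebra.map_top]; exact hfg.out.map ι
  have hfg' : (ι.range ⊔ Algebra.adjoin A {(T (-1) : A[T;T⁻¹])}).FG :=
    hι.sup ⟨{T (-1)}, by simp⟩
  have heq : 𝓕.extRees = ι.range ⊔ Algebra.adjoin A {(T (-1) : A[T;T⁻¹])} := by
    refine le_antisymm (fun f hf => ?_) (sup_le ?_ (Algebra.adjoin_le (Set.singleton_subset_iff.2 𝓕.u.2)))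
    · rw [← AddMonoidAlgebra.sum_single f]
      refine Subalgebra.sum_mem _ fun n _ => ?_
      rw [single_eq_C_mul_T]
      rcases le_total 0 n with hn | hn
      · obtain ⟨k, rfl⟩ := Int.eq_ofNat_of_zero_le hn
        refine SetLike.le_def.1 le_sup_left ⟨⟨Polynomial.monomial k (f.coeff (k : ℤ)), fun m => ?_⟩, ?_⟩
        · rw [Polynomial.coeff_monomial]
          split_ifs with h
          · subst h; simpa using hf (k : ℤ)
          · exact zero_mem _
        · show Polynomial.toLaurent (Polynomial.monomial k (f.coeff (k : ℤ))) = _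
          rw [← Polynomial.C_mul_X_pow_eq_monomial, Polynomial.toLaurent_C_mul_X_pow]
      · obtain ⟨k, rfl⟩ : ∃ k : ℕ, n = -(k : ℤ) := ⟨n.natAbs, by omega⟩
        refine SetLike.le_def.1 le_sup_right (mul_mem (Subalgebra.algebraMap_mem _ (f.coeff (-(k : ℤ)))) ?_)
        rw [show (T (-(k : ℤ)) : A[T;T⁻¹]) = T (-1) ^ k by rw [T_pow, mul_neg_one]]
        exact pow_mem (Algebra.subset_adjoin (R := A) (s := {(T (-1) : A[T;T⁻¹])}) (Set.mem_singleton _)) k
    · rintro _ ⟨⟨p, hp⟩, rfl⟩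
      show Polynomial.toLaurent p ∈ 𝓕.extRees
      rw [p.as_sum_support, map_sum]
      refine Subalgebra.sum_mem _ fun i _ => ?_
      rw [← Polynomial.C_mul_X_pow_eq_monomial, Polynomial.toLaurent_C_mul_X_pow]
      exact single_mem 𝓕 _ _ (by simpa using hp i)
  haveI : Algebra.FiniteType A 𝓕.extRees := (Subalgebra.fg_iff_finiteType _).1 (heq ▸ hfg')
  exact Algebra.FiniteType.isNoetherianRing A 𝓕.extRees

theorem isGorenstein_flatLocalProp : IsFlatLocalProp (fun (R : Type u) [CommRing R] => LocCoh.IsGorensteinLocalRing R) where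
  congr R S _ _ e h := GorLib.gorenstein_of_ringEquiv e.symm h
  asc A B _ _ _ _ _ _ _ _ _ hA hF := (GorLib.gorenstein_flat_iff A B).2 ⟨hA, hF⟩
  desc A B _ _ _ _ _ _ _ _ _ _ hB := ((GorLib.gorenstein_flat_iff A B).1 hB).1

variable {P : ∀ (R : Type u) [CommRing R], Prop} (hP : IsFlatLocalProp P)
  (hreg : ∀ (R : Type u) [CommRing R] [IsRegularLocalRing R], P R)

include hP in
theorem ringP_localization {R S : Type u} [CommRing R] [CommRing S] [Algebra R S] (U : Submonoid R)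
    [IsLocalization U S] (h : RingP P R) : RingP P S := by
  intro Q _
  haveI : IsLocalization.AtPrime (Localization.AtPrime Q) (Q.comap (algebraMap R S)) :=
    IsLocalization.isLocalization_isLocalization_atPrime_isLocalization U _ Q
  exact hP.congr _ _ (IsLocalization.algEquiv (Q.comap (algebraMap R S)).primeCompl
    (Localization.AtPrime (Q.comap (algebraMap R S))) (Localization.AtPrime Q)).toRingEquiv (h _)

include hP hreg in
omit [IsNoetherianRing A] in
theorem ringP_laurent_field (k : Type u) [Field k] : RingP P k[T;T⁻¹] :=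
  ringP_localization hP (Submonoid.powers (Polynomial.X : Polynomial k)) fun q _ => hreg (Localization.AtPrime q)

include hP hreg in
theorem ringP_laurent (h : RingP P A) : RingP P A[T;T⁻¹] := by
  haveI := isNoetherianRing_laurent (A := A)
  refine RingP.asc hP A A[T;T⁻¹] h fun p _ => ?_
  exact RingP.congr hP (AddMonoidAlgebra.scalarTensorEquiv (M := ℤ) A p.ResidueField).symm.toRingEquiv
    (ringP_laurent_field hP hreg p.ResidueField)

include hP in
theorem ringP_of_laurent [Nontrivial A] (h : RingP P A[T;T⁻¹]) : RingP P A := by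
  haveI := isNoetherianRing_laurent (A := A)
  exact RingP.desc hP A A[T;T⁻¹] h

include hP in
omit [IsNoetherianRing A] in
theorem ringP_laurent_of_extRees (h : RingP P 𝓕.extRees) : RingP P A[T;T⁻¹] :=
  haveI := isLocalization_laurent 𝓕
  ringP_localization hP (Submonoid.powers 𝓕.u) h

include hP in
omit [IsNoetherianRing A] in
/-- At a prime not containing `u` the extended Rees algebra is the Laurent polynomial ring. -/
theorem of_notMem (p : Ideal 𝓕.extRees) [p.IsPrime] (hu : 𝓕.u ∉ p)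
    (h : ∀ (Q : Ideal A[T;T⁻¹]) [Q.IsPrime], Q.comap (algebraMap 𝓕.extRees A[T;T⁻¹]) = p →
      P (Localization.AtPrime Q)) : P (Localization.AtPrime p) := by
  haveI := isLocalization_laurent 𝓕
  have hdisj : Disjoint ((Submonoid.powers 𝓕.u : Submonoid 𝓕.extRees) : Set 𝓕.extRees) p :=
    (Ideal.disjoint_powers_iff_notMem_of_isPrime _).2 hu
  let Q := p.map (algebraMap 𝓕.extRees A[T;T⁻¹])
  haveI : Q.IsPrime := IsLocalization.isPrime_of_isPrime_disjoint _ _ p ‹_› hdisj
  have hQ : Q.comap (algebraMap 𝓕.extRees A[T;T⁻¹]) = p :=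
    IsLocalization.comap_map_of_isPrime_disjoint _ _ ‹_› hdisj
  haveI : IsLocalization.AtPrime (Localization.AtPrime Q) p := by
    have h1 : IsLocalization.AtPrime (Localization.AtPrime Q) (Q.comap (algebraMap 𝓕.extRees A[T;T⁻¹])) :=
      IsLocalization.isLocalization_isLocalization_atPrime_isLocalization (Submonoid.powers 𝓕.u) _ Q
    simpa only [hQ] using h1
  exact hP.congr _ _ (IsLocalization.algEquiv p.primeCompl
    (Localization.AtPrime Q) (Localization.AtPrime p)).toRingEquiv (h Q hQ)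

theorem u_mem_nonZeroDivisors : 𝓕.u ∈ nonZeroDivisors 𝓕.extRees := by
  rw [mem_nonZeroDivisors_iff_right]
  intro x hx
  exact Subtype.ext ((isUnit_T (R := A) (-1)).mul_left_eq_zero.1 (congrArg Subtype.val hx))

omit [IsNoetherianRing A] in
theorem mem_prime_iff_F_one (p : Ideal 𝓕.extRees) [p.IsPrime] (hu : 𝓕.u ∉ p) (Q : Ideal A[T;T⁻¹])
    [Q.IsPrime] (hQ : Q.comap (algebraMap 𝓕.extRees A[T;T⁻¹]) = p) :
    Ideal.span {x : 𝓕.extRees | ∃ n : ℕ, 0 < n ∧ ∃ a ∈ 𝓕.F n, (x : A[T;T⁻¹]) = C a * T (n : ℤ)} ≤ p ↔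
      𝓕.F 1 ≤ Q.comap (algebraMap A A[T;T⁻¹]) := by
  constructor
  · intro h a ha
    have h1 : (⟨C a * T ((1 : ℕ) : ℤ), single_mem 𝓕 a _ (by simpa using ha)⟩ : 𝓕.extRees) ∈ p :=
      h (Ideal.subset_span ⟨1, one_pos, a, ha, rfl⟩)
    rw [← hQ, Ideal.mem_comap] at h1
    change C a * T ((1 : ℕ) : ℤ) ∈ Q at h1
    exact (Ideal.mul_unit_mem_iff_mem Q (isUnit_T _)).1 h1
  · intro h
    rw [Ideal.span_le]
    rintro ⟨x, hx⟩ ⟨n, hn, a, ha, rfl⟩
    rw [SetLike.mem_coe, ← hQ, Ideal.mem_comap]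
    exact Ideal.mul_mem_right _ _ (h (𝓕.antitone hn ha))

omit [IsNoetherianRing A] in
/-- A maximal ideal through `u` above a prime over the closed point. -/
theorem exists_maximal [IsLocalRing A] (hF : 𝓕.F 1 ≠ ⊤) :
    ∃ (Q : Ideal A[T;T⁻¹]) (_ : Q.IsPrime) (M : Ideal 𝓕.extRees) (_ : M.IsMaximal),
      Q.comap (algebraMap A A[T;T⁻¹]) = maximalIdeal A ∧ 𝓕.u ∈ M ∧
        Q.comap (algebraMap 𝓕.extRees A[T;T⁻¹]) ≤ M := by
  classical
  let φ : A[T;T⁻¹] →+* (ResidueField A)[T;T⁻¹] := AddMonoidAlgebra.mapRingHom ℤ (residue A)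
  haveI : IsDomain (ResidueField A)[T;T⁻¹] := IsLocalization.isDomain_of_le_nonZeroDivisors
    (M := Submonoid.powers (Polynomial.X : Polynomial (ResidueField A))) _
    (powers_le_nonZeroDivisors_of_noZeroDivisors Polynomial.X_ne_zero)
  have hcoeff : ∀ (f : A[T;T⁻¹]) (n : ℤ), (φ f).coeff n = residue A (f.coeff n) := fun f n => by
    simp [φ]
  let Q := RingHom.ker φ
  have hQm : Q.comap (algebraMap A A[T;T⁻¹]) = maximalIdeal A := by
    refine ((maximalIdeal.isMaximal A).eq_of_le ?_ fun a ha => ?_).symm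
    · exact Ideal.comap_ne_top _ (RingHom.ker_ne_top φ)
    · rw [Ideal.mem_comap, RingHom.mem_ker]
      refine AddMonoidAlgebra.ext (Finsupp.ext fun n => ?_)
      rw [hcoeff]
      rw [LaurentPolynomial.algebraMap_apply, Algebra.algebraMap_self, RingHom.id_apply, LaurentPolynomial.C_apply]
      split_ifs
      · rw [(residue_eq_zero_iff a).2 ha]; rfl
      · simp
  have hne : Q.comap (algebraMap 𝓕.extRees A[T;T⁻¹]) ⊔ Ideal.span {𝓕.u} ≠ ⊤ := by
    intro h
    obtain ⟨x, hx, y, hy, hxy⟩ := Submodule.mem_sup.1 ((Ideal.eq_top_iff_one _).1 h)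
    obtain ⟨r, rfl⟩ := Ideal.mem_span_singleton'.1 hy
    have h1 : φ (algebraMap 𝓕.extRees A[T;T⁻¹] r) * T (-1) = 1 := by
      have h2 := congrArg (fun z => φ (algebraMap 𝓕.extRees A[T;T⁻¹] z)) hxy
      simp only [map_add, map_mul, map_one, show φ (algebraMap 𝓕.extRees A[T;T⁻¹] x) = 0 from hx, zero_add] at h2
      rw [show φ (algebraMap 𝓕.extRees A[T;T⁻¹] 𝓕.u) = T (-1) by
        show φ (T (-1)) = _
        rw [T, T]
        exact (AddMonoidAlgebra.mapRingHom_single _ _ _).trans (by rw [map_one])] at h2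
      exact h2
    have h3 : φ (algebraMap 𝓕.extRees A[T;T⁻¹] r) = T 1 := by
      have h4 := congrArg (· * T 1) h1
      simp only [one_mul, mul_assoc, ← T_add, neg_add_cancel, T_zero, mul_one] at h4
      exact h4
    have h5 := congrArg (fun z => z.coeff (1 : ℤ)) h3
    simp only [hcoeff, T_apply, if_pos] at h5
    have h6 : residue A ((r : A[T;T⁻¹]).coeff (1 : ℤ)) = 0 :=
      (residue_eq_zero_iff _).2 (IsLocalRing.le_maximalIdeal hF (by simpa using r.2 (1 : ℤ)))
    exact one_ne_zero (α := ResidueField A) (h5.symm.trans h6)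
  obtain ⟨M, hM, hle⟩ := Ideal.exists_le_maximal _ hne
  exact ⟨Q, RingHom.ker_isPrime φ, M, hM, hQm,
    (le_sup_right.trans hle) (Ideal.mem_span_singleton_self _), le_sup_left.trans hle⟩

end ExtReesLib

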