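import Groth.Agent.ExtReesLib.Apps
import Groth.Agent.DepthTwoLib.Basic
import Mathlib.RingTheory.PolynomialAlgebra
import Mathlib.RingTheory.Ideal.Height

/-! # `(S₂)` for Rees algebras from `(S₂)` for extended Rees algebras -/

set_option autoImplicit false
set_option backward.isDefEq.respectTransparency false
set_option backward.isDefEq.respectTransparency.types false

universe u

open IsLocalRing LaurentPolynomial GeomRedFibLib CommAlgDim

namespace ExtReesLib

/-! ## Two lemmas on depth two -/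

theorem two_le_of_colon {B : Type u} [CommRing B] [IsNoetherianRing B] (J : Ideal B) (a : B) (haJ : a ∈ J)
    (ha : IsSMulRegular B a) (h : ∀ z : B, (∀ j ∈ J, a ∣ j * z) → a ∣ z) :
    2 ≤ LocCoh.idealDepth J B := by
  rw [DepthTwoLib.two_le_iff]
  refine ⟨fun m hm => ha (show a • m = a • (0 : B) by rw [hm a haJ, smul_zero]), fun φ => ?_⟩
  have key : ∀ j : J, (j : B) * φ ⟨a, haJ⟩ = a * φ j := fun j => by
    rw [← smul_eq_mul, ← smul_eq_mul, ← map_smul, ← map_smul]
    exact congrArg φ (Subtype.ext (mul_comm (j : B) a))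
  obtain ⟨m, hm⟩ := h (φ ⟨a, haJ⟩) fun j hj => ⟨_, key ⟨j, hj⟩⟩
  refine ⟨m, fun j => ha ?_⟩
  show a * φ j = a * ((j : B) * m)
  rw [← key j, hm]; ring

theorem colon_of_two_le {B : Type u} [CommRing B] [IsNoetherianRing B] (J : Ideal B)
    (hd : 2 ≤ LocCoh.idealDepth J B) (a : B) (haJ : a ∈ J) (ha : IsSMulRegular B a) (z : B)
    (h : ∀ j ∈ J, a ∣ j * z) : a ∣ z := by
  classical
  choose g hg using fun j : J => h j j.2
  let φ : J →ₗ[B] B :=
    { toFun := g
      map_add' := fun x y => ha (show a * g (x + y) = a * (g x + g y) by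
        rw [mul_add, ← hg, ← hg, ← hg, Submodule.coe_add, add_mul])
      map_smul' := fun c x => ha (show a * g (c • x) = a * (c * g x) by
        rw [← hg, mul_left_comm, ← hg, SetLike.val_smul, smul_eq_mul, mul_assoc]) }
  obtain ⟨m, hm⟩ := ((DepthTwoLib.two_le_iff).1 hd).2 φ
  refine ⟨m, ha ?_⟩
  show a * z = a * (a * m)
  exact (hg ⟨a, haJ⟩).trans (congrArg (a * ·) (hm ⟨a, haJ⟩))

theorem coe_two_le_min {R : Type u} [CommRing R] [IsNoetherianRing R] (h : RingP (SkLoc 2) R) (p : Ideal R)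
    [p.IsPrime] (hp : 2 ≤ p.height) :
    2 ≤ LocCoh.depth (Localization.AtPrime p) (Localization.AtPrime p) := by
  obtain ⟨_, _, hle⟩ := h p
  rw [IsLocalization.AtPrime.ringKrullDim_eq_height p (Localization.AtPrime p),
    min_eq_left (show ((2 : ℕ) : WithBot ℕ∞) ≤ (p.height : WithBot ℕ∞) from
      (show ((2 : ℕ) : WithBot ℕ∞) = (((2 : ℕ∞)) : WithBot ℕ∞) from rfl) ▸ WithBot.coe_le_coe.2 hp)] at hle
  exact WithBot.coe_le_coe.1 hle

theorem two_le_idealDepth {R : Type u} [CommRing R] [IsNoetherianRing R] (h : RingP (SkLoc 2) R) (J : Ideal R)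
    (hJ : ∀ q : Ideal R, q.IsPrime → J ≤ q → 2 ≤ q.height) : 2 ≤ LocCoh.idealDepth J R := by
  rw [show (2 : ℕ∞) = ((2 : ℕ) : ℕ∞) from rfl, le_idealDepth_iff, hasSeqIn_iff_forall_localization]
  intro q _ hle
  rw [(HenselDesc.localized_self q).2]
  exact coe_two_le_min h q (hJ q ‹_› hle)

theorem two_le_height {R : Type u} [CommRing R] [IsNoetherianRing R] {P0 P1 Q : Ideal R} [P0.IsPrime] [P1.IsPrime]
    (h0 : P0 < P1) (h1 : P1 < Q) : 2 ≤ Q.height := by
  have a := Ideal.height_strict_mono_of_isPrime h0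
  have b := Ideal.height_strict_mono_of_isPrime h1
  have : 1 ≤ P1.height := ENat.one_le_iff_ne_zero.2 (ne_bot_of_gt a)
  calc (2 : ℕ∞) = 1 + 1 := (one_add_one_eq_two).symm
    _ ≤ P1.height + 1 := add_le_add_left this 1
    _ ≤ Q.height := Order.add_one_le_of_lt b

theorem exists_chain {R : Type u} [CommRing R] [IsNoetherianRing R] (q : Ideal R) [q.IsPrime] (h : 2 ≤ q.height) :
    ∃ q0 q1 : Ideal R, q0.IsPrime ∧ q1.IsPrime ∧ q0 < q1 ∧ q1 < q := by
  rw [show q.height = Order.height (⟨q, inferInstance⟩ : PrimeSpectrum R) from PrimeSpectrum.height_eq_orderHeight ⟨q, inferInstance⟩] at h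
  obtain ⟨l, hlast, hlen⟩ := Order.exists_series_of_le_height (⟨q, inferInstance⟩ : PrimeSpectrum R) (n := 2) h
  refine ⟨(l ⟨0, by omega⟩).asIdeal, (l ⟨1, by omega⟩).asIdeal, (l _).2, (l _).2,
    l.strictMono (Fin.mk_lt_mk.2 zero_lt_one), ?_⟩
  have h2 : l ⟨1, by omega⟩ < l ⟨2, by omega⟩ := l.strictMono (Fin.mk_lt_mk.2 one_lt_two)
  have h3 : l ⟨2, by omega⟩ = ⟨q, inferInstance⟩ := hlast ▸ congrArg l (Fin.ext (by simp [hlen]))
  exact (h3 ▸ h2 :)

/-- Localising a subring at an element of it. -/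
theorem isLocalization_away_comp {R S L : Type u} [CommRing R] [CommRing S] [CommRing L] [Algebra R S]
    [Algebra S L] [Algebra R L] [IsScalarTower R S L] (hinj : Function.Injective (algebraMap R S)) (t : R)
    [IsLocalization.Away (algebraMap R S t) L]
    (h : ∀ s : S, ∃ (N : ℕ) (r : R), algebraMap R S r = algebraMap R S t ^ N * s) :
    IsLocalization.Away t L := by
  refine (isLocalization_iff (Submonoid.powers t) L).2 ⟨?_, fun z => ?_, fun {x y} hxy => ?_⟩
  · rintro ⟨_, n, rfl⟩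
    rw [IsScalarTower.algebraMap_apply R S L, map_pow]
    exact IsLocalization.map_units L (⟨algebraMap R S t ^ n, n, rfl⟩ : Submonoid.powers (algebraMap R S t))
  · obtain ⟨⟨s, _, n, rfl⟩, hs⟩ := IsLocalization.surj (Submonoid.powers (algebraMap R S t)) z
    obtain ⟨N, r, hr⟩ := h s
    refine ⟨(r, ⟨t ^ (N + n), _, rfl⟩), ?_⟩
    show z * algebraMap R L (t ^ (N + n)) = algebraMap R L r
    rw [IsScalarTower.algebraMap_apply R S L, IsScalarTower.algebraMap_apply R S L r, hr, map_mul, ← hs,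
      map_pow, pow_add, map_mul]
    simp only [map_pow]
    ring
  · rw [IsScalarTower.algebraMap_apply R S L, IsScalarTower.algebraMap_apply R S L] at hxy
    obtain ⟨⟨_, n, rfl⟩, hn⟩ := IsLocalization.exists_of_eq (M := Submonoid.powers (algebraMap R S t)) hxy
    exact ⟨⟨t ^ n, n, rfl⟩, hinj (by simpa using hn)⟩

theorem of_away {P : ∀ (R : Type u) [CommRing R], Prop} (hP : IsFlatLocalProp P) {R : Type u} [CommRing R] (t : R)
    (L : Type u) [CommRing L] [Algebra R L] [IsLocalization.Away t L] (h : RingP P L) (p : Ideal R) [p.IsPrime]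
    (ht : t ∉ p) : P (Localization.AtPrime p) := by
  have hdisj : Disjoint ((Submonoid.powers t : Submonoid R) : Set R) p :=
    (Ideal.disjoint_powers_iff_notMem_of_isPrime _).2 ht
  let Q := p.map (algebraMap R L)
  haveI : Q.IsPrime := IsLocalization.isPrime_of_isPrime_disjoint (Submonoid.powers t) _ p ‹_› hdisj
  have hQ : Q.comap (algebraMap R L) = p :=
    IsLocalization.comap_map_of_isPrime_disjoint (Submonoid.powers t) _ ‹_› hdisj
  haveI : IsLocalization.AtPrime (Localization.AtPrime Q) p := by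
    have h1 : IsLocalization.AtPrime (Localization.AtPrime Q) (Q.comap (algebraMap R L)) :=
      IsLocalization.isLocalization_isLocalization_atPrime_isLocalization (Submonoid.powers t) _ Q
    simpa only [hQ] using h1
  exact hP.congr _ _ (IsLocalization.algEquiv p.primeCompl
    (Localization.AtPrime Q) (Localization.AtPrime p)).toRingEquiv (h Q)

theorem ringP_polynomial {P : ∀ (R : Type u) [CommRing R], Prop} (hP : IsFlatLocalProp P)
    (hreg : ∀ (R : Type u) [CommRing R] [IsRegularLocalRing R], P R) {A : Type u} [CommRing A] [IsNoetherianRing A]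
    (h : RingP P A) : RingP P (Polynomial A) := by
  refine RingP.asc hP A (Polynomial A) h fun p _ => ?_
  exact RingP.congr hP (polyEquivTensor A p.ResidueField).toRingEquiv fun q _ => hreg (Localization.AtPrime q)

variable {A : Type u} [CommRing A] (𝓕 : FiltBl.IdealFiltration A)

/-- The Rees algebra inside the extended Rees algebra. -/
noncomputable def reesToExt : 𝓕.rees →+* 𝓕.extRees :=
  RingHom.codRestrict (Polynomial.toLaurent.comp 𝓕.rees.val.toRingHom) 𝓕.extRees fun p => by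
    show Polynomial.toLaurent (p : Polynomial A) ∈ 𝓕.extRees
    rw [(p : Polynomial A).as_sum_support, map_sum]
    refine Subalgebra.sum_mem _ fun i _ => ?_
    rw [← Polynomial.C_mul_X_pow_eq_monomial, Polynomial.toLaurent_C_mul_X_pow]
    exact single_mem 𝓕 _ _ (by simpa using p.2 i)

theorem coe_reesToExt (p : 𝓕.rees) :
    ((reesToExt 𝓕 p : 𝓕.extRees) : A[T;T⁻¹]) = Polynomial.toLaurent (p : Polynomial A) := rfl

theorem reesToExt_injective : Function.Injective (reesToExt 𝓕) := fun _ _ h =>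
  Subtype.ext (Polynomial.toLaurent_injective (congrArg Subtype.val h))

theorem monomial_mem (n : ℕ) (a : A) (ha : a ∈ 𝓕.F n) : Polynomial.monomial n a ∈ 𝓕.rees := fun m => by
  rw [Polynomial.coeff_monomial]
  split_ifs with h
  · subst h; exact ha
  · exact zero_mem _

theorem exists_toLaurent_eq (y : A[T;T⁻¹]) (hy : y ∈ 𝓕.extRees) (hneg : ∀ n : ℤ, n < 0 → y.coeff n = 0) :
    ∃ r : 𝓕.rees, Polynomial.toLaurent (r : Polynomial A) = y := by
  refine ⟨⟨∑ n ∈ y.coeff.support, Polynomial.monomial n.toNat (y.coeff n),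
    Subalgebra.sum_mem _ fun n _ => monomial_mem 𝓕 _ _ (hy n)⟩, ?_⟩
  show Polynomial.toLaurent (∑ n ∈ y.coeff.support, Polynomial.monomial n.toNat (y.coeff n)) = y
  conv_rhs => rw [← AddMonoidAlgebra.sum_single y]
  rw [map_sum]
  refine Finset.sum_congr rfl fun n hn => ?_
  have : (0 : ℤ) ≤ n := not_lt.1 fun hlt => Finsupp.mem_support_iff.1 hn (hneg n hlt)
  rw [← Polynomial.C_mul_X_pow_eq_monomial, Polynomial.toLaurent_C_mul_X_pow, Int.toNat_of_nonneg this,
    single_eq_C_mul_T]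

theorem exists_away_eq (n : ℕ) (hn : 0 < n) (a : A) (ha : a ∈ 𝓕.F n) (x : 𝓕.extRees) :
    ∃ (N : ℕ) (r : 𝓕.rees), reesToExt 𝓕 r = reesToExt 𝓕 ⟨_, monomial_mem 𝓕 n a ha⟩ ^ N * x := by
  classical
  obtain ⟨x, hx⟩ := x
  obtain ⟨N, hN⟩ : ∃ N : ℕ, ∀ m ∈ x.coeff.support, -m ≤ (N : ℤ) :=
    ⟨x.coeff.support.sup fun m => (-m).toNat, fun m hm => le_trans (Int.self_le_toNat _)
      (Int.ofNat_le.2 (Finset.le_sup (f := fun m : ℤ => (-m).toNat) hm))⟩
  let t := reesToExt 𝓕 ⟨_, monomial_mem 𝓕 n a ha⟩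
  have ht : ((t ^ N : 𝓕.extRees) : A[T;T⁻¹]) = C (a ^ N) * T ((N * n : ℕ) : ℤ) := by
    rw [SubmonoidClass.coe_pow, coe_reesToExt]
    show Polynomial.toLaurent (Polynomial.monomial n a) ^ N = _
    rw [← map_pow, Polynomial.monomial_pow, ← Polynomial.C_mul_X_pow_eq_monomial,
      Polynomial.toLaurent_C_mul_X_pow, mul_comm n N]
  obtain ⟨r, hr⟩ := exists_toLaurent_eq 𝓕 _ ((t ^ N) * ⟨x, hx⟩ : 𝓕.extRees).2 fun m hm => by
    rw [MulMemClass.coe_mul, ht, ← single_eq_C_mul_T, AddMonoidAlgebra.coeff_single_mul_apply]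
    rw [Finsupp.notMem_support_iff.1 (fun hs => ?_), mul_zero]
    have := hN _ hs
    have : N ≤ N * n := Nat.le_mul_of_pos_right N hn
    omega
  exact ⟨N, r, Subtype.ext hr⟩

variable [IsNoetherianRing A]

theorem skLoc_of_monomial_notMem (hfg : Algebra.FiniteType A 𝓕.rees) (hR : RingP (SkLoc 2) 𝓕.extRees)
    (P : Ideal 𝓕.rees) [P.IsPrime] (n : ℕ) (hn : 0 < n) (a : A) (ha : a ∈ 𝓕.F n)
    (hP : (⟨_, monomial_mem 𝓕 n a ha⟩ : 𝓕.rees) ∉ P) : SkLoc 2 (Localization.AtPrime P) := by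
  haveI := isNoetherianRing_extRees 𝓕 hfg
  let t : 𝓕.rees := ⟨_, monomial_mem 𝓕 n a ha⟩
  letI : Algebra 𝓕.rees 𝓕.extRees := (reesToExt 𝓕).toAlgebra
  let L := Localization.Away (algebraMap 𝓕.rees 𝓕.extRees t)
  haveI : IsLocalization.Away t L :=
    isLocalization_away_comp (S := 𝓕.extRees) (reesToExt_injective 𝓕) t (exists_away_eq 𝓕 n hn a ha)
  exact of_away (isFlatLocalProp_skLoc 2) t L
    (ringP_localization (isFlatLocalProp_skLoc 2) (Submonoid.powers (algebraMap 𝓕.rees 𝓕.extRees t)) hR) P hP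

theorem skLoc_of_base_notMem (hA : RingP (SkLoc 2) A) (P : Ideal 𝓕.rees) [P.IsPrime] (a : A) (ha : a ∈ 𝓕.F 1)
    (hP : algebraMap A 𝓕.rees a ∉ P) : SkLoc 2 (Localization.AtPrime P) := by
  let t : 𝓕.rees := algebraMap A 𝓕.rees a
  let L := Localization.Away (algebraMap 𝓕.rees (Polynomial A) t)
  have h : ∀ f : Polynomial A, ∃ (N : ℕ) (r : 𝓕.rees),
      algebraMap 𝓕.rees (Polynomial A) r = algebraMap 𝓕.rees (Polynomial A) t ^ N * f := fun f => by
    have hpow : ∀ N, a ^ N ∈ 𝓕.F N := fun N => by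
      induction N with
      | zero => rw [𝓕.zero_eq]; trivial
      | succ N ih => rw [pow_succ]; exact 𝓕.mul_le N 1 (Ideal.mul_mem_mul ih ha)
    refine ⟨f.natDegree, ⟨Polynomial.C (a ^ f.natDegree) * f, fun m => ?_⟩, ?_⟩
    · rw [Polynomial.coeff_C_mul]
      rcases le_or_gt m f.natDegree with hm | hm
      · exact Ideal.mul_mem_right _ _ (𝓕.antitone hm (hpow _))
      · rw [Polynomial.coeff_eq_zero_of_natDegree_lt hm, mul_zero]; exact zero_mem _
    · show Polynomial.C (a ^ f.natDegree) * f = Polynomial.C a ^ f.natDegree * f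
      rw [map_pow]
  haveI : IsLocalization.Away t L :=
    isLocalization_away_comp (S := Polynomial A) (fun _ _ e => Subtype.ext e) t h
  exact of_away (isFlatLocalProp_skLoc 2) t L
    (ringP_localization (isFlatLocalProp_skLoc 2) (Submonoid.powers (algebraMap 𝓕.rees (Polynomial A) t))
      (ringP_polynomial (isFlatLocalProp_skLoc 2) (skLoc_of_regular 2) hA)) P hP

/-- The prime of the extended Rees algebra over a prime of the base, generically in the fibre. -/
noncomputable def coeffPrime (q : Ideal A) : Ideal 𝓕.extRees :=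
  RingHom.ker ((AddMonoidAlgebra.mapRingHom ℤ (Ideal.Quotient.mk q)).comp 𝓕.extRees.val.toRingHom)

theorem mem_coeffPrime (q : Ideal A) (x : 𝓕.extRees) :
    x ∈ coeffPrime 𝓕 q ↔ ∀ m : ℤ, (x : A[T;T⁻¹]).coeff m ∈ q := by
  show AddMonoidAlgebra.mapRingHom ℤ (Ideal.Quotient.mk q) (x : A[T;T⁻¹]) = 0 ↔ _
  rw [← AddMonoidAlgebra.coeff_inj, Finsupp.ext_iff]
  simp only [AddMonoidAlgebra.coeff_mapRingHom, AddMonoidAlgebra.coeff_zero, Finsupp.coe_zero, Pi.zero_apply]
  exact forall_congr' fun m => Ideal.Quotient.eq_zero_iff_mem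

theorem coeffPrime_isPrime (q : Ideal A) [q.IsPrime] : (coeffPrime 𝓕 q).IsPrime := by
  haveI : IsDomain (A ⧸ q) := Ideal.Quotient.isDomain q
  exact RingHom.ker_isPrime _

theorem coeffPrime_lt {q q' : Ideal A} (h : q < q') : coeffPrime 𝓕 q < coeffPrime 𝓕 q' := by
  refine lt_of_le_of_ne (fun x hx => (mem_coeffPrime 𝓕 q' x).2 fun m => h.le ((mem_coeffPrime 𝓕 q x).1 hx m))
    fun he => h.not_ge fun b hb => ?_
  let x : 𝓕.extRees := ⟨C b * T 0, single_mem_of_nonpos 𝓕 b 0 le_rfl⟩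
  have hx : x ∈ coeffPrime 𝓕 q' := (mem_coeffPrime 𝓕 q' x).2 fun m => by
    show (C b * T 0 : A[T;T⁻¹]).coeff m ∈ q'
    rw [← single_eq_C_mul_T, AddMonoidAlgebra.coeff_single, Finsupp.single_apply]
    split_ifs
    exacts [hb, zero_mem _]
  have := (mem_coeffPrime 𝓕 q x).1 (he ▸ hx) 0
  change (C b * T 0 : A[T;T⁻¹]).coeff 0 ∈ q at this
  rwa [← single_eq_C_mul_T, AddMonoidAlgebra.coeff_single, Finsupp.single_eq_same] at this

theorem two_le_height_of_over (hfg : Algebra.FiniteType A 𝓕.rees) (P : Ideal 𝓕.rees) [P.IsPrime]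
    (hht : 2 ≤ (P.comap (algebraMap A 𝓕.rees)).height)
    (hmon : ∀ (n : ℕ) (a : A) (ha : a ∈ 𝓕.F n), 0 < n → (⟨_, monomial_mem 𝓕 n a ha⟩ : 𝓕.rees) ∈ P)
    (Q : Ideal 𝓕.extRees) [Q.IsPrime] (hQ : P.map (reesToExt 𝓕) ≤ Q) : 2 ≤ Q.height := by
  haveI := isNoetherianRing_extRees 𝓕 hfg
  let q := Q.comap (algebraMap A 𝓕.extRees)
  haveI : q.IsPrime := Ideal.IsPrime.comap _
  have hpq : P.comap (algebraMap A 𝓕.rees) ≤ q := fun b hb => by
    have h1 : reesToExt 𝓕 (algebraMap A 𝓕.rees b) ∈ Q := hQ (Ideal.mem_map_of_mem _ hb)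
    have h2 : reesToExt 𝓕 (algebraMap A 𝓕.rees b) = algebraMap A 𝓕.extRees b :=
      Subtype.ext (Polynomial.toLaurent_C b)
    show algebraMap A 𝓕.extRees b ∈ Q
    rw [← h2]; exact h1
  obtain ⟨q0, q1, h0, h1, h01, h12⟩ := exists_chain q (hht.trans (Ideal.height_mono hpq))
  haveI := h0
  haveI := h1
  haveI := coeffPrime_isPrime 𝓕 q0
  haveI := coeffPrime_isPrime 𝓕 q1
  have hle : coeffPrime 𝓕 q ≤ Q := fun x hx => by
    have hc := (mem_coeffPrime 𝓕 q x).1 hx
    have hx' : x = ∑ m ∈ (x : A[T;T⁻¹]).coeff.support,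
        (⟨C ((x : A[T;T⁻¹]).coeff m) * T m, single_mem 𝓕 _ _ (x.2 m)⟩ : 𝓕.extRees) := Subtype.ext (by
      rw [AddSubmonoidClass.coe_finsetSum]
      conv_lhs => rw [← AddMonoidAlgebra.sum_single (x : A[T;T⁻¹])]
      exact Finset.sum_congr rfl fun m _ => single_eq_C_mul_T _ _)
    rw [hx']
    refine Ideal.sum_mem _ fun m _ => ?_
    rcases le_or_gt m 0 with hm | hm
    · obtain ⟨k, rfl⟩ : ∃ k : ℕ, m = -(k : ℤ) := ⟨m.natAbs, by omega⟩
      rw [show (⟨C ((x : A[T;T⁻¹]).coeff (-(k : ℤ))) * T (-(k : ℤ)), single_mem 𝓕 _ _ (x.2 _)⟩ : 𝓕.extRees) =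
        algebraMap A 𝓕.extRees ((x : A[T;T⁻¹]).coeff (-(k : ℤ))) * 𝓕.u ^ k from
          Subtype.ext (by rw [MulMemClass.coe_mul, u_pow]; rfl)]
      exact Q.mul_mem_right _ (hc _)
    · obtain ⟨k, rfl⟩ := Int.eq_ofNat_of_zero_le hm.le
      have ha : (x : A[T;T⁻¹]).coeff (k : ℤ) ∈ 𝓕.F k := by simpa using x.2 (k : ℤ)
      refine hQ ?_
      convert Ideal.mem_map_of_mem (reesToExt 𝓕) (hmon k _ ha (by omega)) using 1
      refine Subtype.ext ?_
      rw [coe_reesToExt]
      show _ = Polynomial.toLaurent (Polynomial.monomial k _)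
      rw [← Polynomial.C_mul_X_pow_eq_monomial, Polynomial.toLaurent_C_mul_X_pow]
  exact two_le_height (coeffPrime_lt 𝓕 h01) ((coeffPrime_lt 𝓕 h12).trans_le hle)

theorem skLoc_of_over (hfg : Algebra.FiniteType A 𝓕.rees) (hA : RingP (SkLoc 2) A) (hR : RingP (SkLoc 2) 𝓕.extRees)
    (P : Ideal 𝓕.rees) [P.IsPrime] (hht : 2 ≤ (P.comap (algebraMap A 𝓕.rees)).height)
    (hmon : ∀ (n : ℕ) (a : A) (ha : a ∈ 𝓕.F n), 0 < n → (⟨_, monomial_mem 𝓕 n a ha⟩ : 𝓕.rees) ∈ P) :
    SkLoc 2 (Localization.AtPrime P) := by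
  haveI := isNoetherianRing_extRees 𝓕 hfg
  haveI : IsNoetherianRing 𝓕.rees := Algebra.FiniteType.isNoetherianRing A _
  haveI : IsNoetherianRing (Localization.AtPrime P) := IsLocalization.isNoetherianRing P.primeCompl _ inferInstance
  let p := P.comap (algebraMap A 𝓕.rees)
  haveI : p.IsPrime := Ideal.IsPrime.comap _
  have hdA : 2 ≤ LocCoh.idealDepth p A :=
    two_le_idealDepth hA p fun q _ hle => hht.trans (Ideal.height_mono hle)
  have hdR : 2 ≤ LocCoh.idealDepth (P.map (reesToExt 𝓕)) 𝓕.extRees :=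
    two_le_idealDepth hR _ fun Q hQ hle => @two_le_height_of_over A _ 𝓕 _ hfg P _ hht hmon Q hQ hle
  obtain ⟨a, hap, ha⟩ := exists_isSMulRegular_mem ((hasSeqIn_one_iff p).1
    ((le_idealDepth_iff p 1).1 (le_trans (by norm_num) hdA)) : ∀ r ∈ associatedPrimes A A, ¬ p ≤ r)
  let a' : 𝓕.rees := algebraMap A 𝓕.rees a
  have ha' : IsSMulRegular 𝓕.rees a' := fun x y hxy => Subtype.ext (Polynomial.ext fun m => ha (by
    have h := congrArg (fun f : 𝓕.rees => (f : Polynomial A).coeff m) hxy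
    simpa [a', Polynomial.coeff_C_mul] using h))
  have haE : IsSMulRegular 𝓕.extRees (reesToExt 𝓕 a') := fun x y hxy => Subtype.ext (LaurentPolynomial.ext fun m => ha (by
    have h : (((reesToExt 𝓕 a' * x : 𝓕.extRees) : A[T;T⁻¹])).coeff m = ((reesToExt 𝓕 a' * y : 𝓕.extRees) : A[T;T⁻¹]).coeff m :=
      congrArg (fun f : 𝓕.extRees => (f : A[T;T⁻¹]).coeff m) hxy
    simp only [MulMemClass.coe_mul, coe_reesToExt] at h
    change (Polynomial.toLaurent (Polynomial.C a) * _).coeff m = (Polynomial.toLaurent (Polynomial.C a) * _).coeff m at h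
    rw [Polynomial.toLaurent_C, ← single_eq_C, AddMonoidAlgebra.coeff_single_zero_mul, AddMonoidAlgebra.coeff_single_zero_mul] at h
    exact h))
  have hglobal : ∀ z : 𝓕.rees, (∀ j ∈ P, a' ∣ j * z) → a' ∣ z := by
    intro z hz
    have hzA : ∀ m, a ∣ (z : Polynomial A).coeff m := fun m => colon_of_two_le p hdA a hap ha _ fun b hb => by
      obtain ⟨w, hw⟩ := hz (algebraMap A 𝓕.rees b) hb
      exact ⟨(w : Polynomial A).coeff m, by
        have h := congrArg (fun f : 𝓕.rees => (f : Polynomial A).coeff m) hw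
        simpa [a', Polynomial.coeff_C_mul] using h⟩
    obtain ⟨v, hv⟩ := colon_of_two_le (P.map (reesToExt 𝓕)) hdR (reesToExt 𝓕 a')
      (Ideal.mem_map_of_mem _ hap) haE (reesToExt 𝓕 z) fun j hj => by
      induction hj using Submodule.span_induction with
      | mem j hj =>
        obtain ⟨i, hi, rfl⟩ := hj
        rw [← map_mul]; exact map_dvd _ (hz i hi)
      | zero => rw [zero_mul]; exact dvd_zero _
      | add x y _ _ hx hy => rw [add_mul]; exact dvd_add hx hy
      | smul c x _ hx => rw [smul_eq_mul, mul_assoc]; exact hx.mul_left c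
    have hv' : ∀ m : ℤ, m < 0 → (v : A[T;T⁻¹]).coeff m = 0 := fun m hm => ha (by
      have h := congrArg (fun f : 𝓕.extRees => (f : A[T;T⁻¹]).coeff m) hv
      simp only [MulMemClass.coe_mul, coe_reesToExt] at h
      change _ = (Polynomial.toLaurent (Polynomial.C a) * (v : A[T;T⁻¹])).coeff m at h
      rw [Polynomial.toLaurent_C, ← single_eq_C, AddMonoidAlgebra.coeff_single_zero_mul] at h
      show a • _ = a • (0 : A)
      rw [smul_zero, smul_eq_mul, ← h]
      by_contra hne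
      obtain ⟨k, hk⟩ : ∃ k : ℕ, m = (k : ℤ) := by
        by_contra hno
        push Not at hno
        refine hne ?_
        rw [Polynomial.as_sum_support (z : Polynomial A), map_sum, AddMonoidAlgebra.coeff_sum, Finsupp.finsetSum_apply]
        refine Finset.sum_eq_zero fun i _ => ?_
        rw [← Polynomial.C_mul_X_pow_eq_monomial, Polynomial.toLaurent_C_mul_X_pow, ← single_eq_C_mul_T,
          AddMonoidAlgebra.coeff_single, Finsupp.single_eq_of_ne (hno i)]
      omega)
    obtain ⟨r, hr⟩ := exists_toLaurent_eq 𝓕 v v.2 hv'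
    exact ⟨r, reesToExt_injective 𝓕 (by rw [hv, map_mul]; exact congrArg _ (Subtype.ext hr.symm))⟩
  have hd : 2 ≤ LocCoh.depth (Localization.AtPrime P) (Localization.AtPrime P) := by
    refine two_le_of_colon _ (algebraMap 𝓕.rees _ a')
      ((IsLocalization.AtPrime.to_map_mem_maximal_iff _ P a').2 hap) ?_ fun ζ hζ => ?_
    · exact isSMulRegular_loc_ring P a' ha'
    obtain ⟨⟨z, s⟩, hs⟩ := IsLocalization.surj P.primeCompl ζ
    choose! w hw using fun j (hj : j ∈ P) =>
      exists_dvd_of_loc P a' (j * z) (by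
        have := (hζ (algebraMap 𝓕.rees _ j) ((IsLocalization.AtPrime.to_map_mem_maximal_iff _ P j).2 hj))
        rw [map_mul, ← hs, ← mul_assoc]
        exact this.mul_right _)
    obtain ⟨G, hG⟩ := (IsNoetherian.noetherian P : P.FG)
    let σ : 𝓕.rees := ∏ g ∈ G, w g
    have hσ : σ ∉ P := fun h => by
      obtain ⟨g, hg, hgP⟩ := Ideal.IsPrime.prod_mem_iff.1 h
      exact (hw g (hG ▸ Ideal.subset_span hg)).1 hgP
    obtain ⟨e, he⟩ := hglobal (σ * z) fun j hj => by
      rw [← hG] at hj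
      induction hj using Submodule.span_induction with
      | mem g hg =>
        obtain ⟨e, he⟩ := Finset.dvd_prod_of_mem w hg
        have hgσ : g * (σ * z) = e * (w g * (g * z)) := by
          show g * ((∏ g ∈ G, w g) * z) = _
          rw [he]; ring
        rw [hgσ]
        exact (hw g (hG ▸ Ideal.subset_span hg)).2.mul_left _
      | zero => rw [zero_mul]; exact dvd_zero _
      | add x y _ _ hx hy => rw [add_mul]; exact dvd_add hx hy
      | smul c x _ hx => rw [smul_eq_mul, mul_assoc]; exact hx.mul_left c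
    have hu : IsUnit (algebraMap 𝓕.rees (Localization.AtPrime P) (σ * (s : 𝓕.rees))) :=
      IsLocalization.map_units _ (⟨σ * s, P.primeCompl.mul_mem hσ s.2⟩ : P.primeCompl)
    refine hu.dvd_mul_left.1 ?_
    rw [map_mul, mul_assoc, mul_comm _ ζ, hs, ← map_mul, he, map_mul]
    exact dvd_mul_right _ _
  refine ⟨inferInstance, inferInstance, le_trans (min_le_left _ _) ?_⟩
  exact WithBot.coe_le_coe.2 hd
where
  isSMulRegular_loc_ring {R : Type u} [CommRing R] (p : Ideal R) [p.IsPrime] (x : R) (hx : IsSMulRegular R x) :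
      IsSMulRegular (Localization.AtPrime p) (algebraMap R (Localization.AtPrime p) x) := by
    intro y z h
    have h' : algebraMap R (Localization.AtPrime p) x * y = algebraMap R (Localization.AtPrime p) x * z := h
    obtain ⟨⟨y₀, s⟩, hy⟩ := IsLocalization.surj p.primeCompl y
    obtain ⟨⟨z₀, t⟩, hz⟩ := IsLocalization.surj p.primeCompl z
    have h1 : algebraMap R (Localization.AtPrime p) (x * (y₀ * t)) = algebraMap R _ (x * (z₀ * s)) := by
      simp only [map_mul, ← hy, ← hz]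
      linear_combination (algebraMap R (Localization.AtPrime p) s * algebraMap R (Localization.AtPrime p) t) * h'
    obtain ⟨c, hc⟩ := IsLocalization.exists_of_eq (M := p.primeCompl) h1
    have h2 : (c : R) * (y₀ * t) = c * (z₀ * s) := hx (by
      show x * _ = x * _
      linear_combination hc)
    have h3 := congrArg (algebraMap R (Localization.AtPrime p)) h2
    simp only [map_mul, ← hy, ← hz] at h3
    refine ((IsLocalization.map_units (Localization.AtPrime p) c).mul ((IsLocalization.map_units (Localization.AtPrime p) s).mul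
      (IsLocalization.map_units (Localization.AtPrime p) t))).mul_left_cancel ?_
    linear_combination h3
  exists_dvd_of_loc {R : Type u} [CommRing R] (p : Ideal R) [p.IsPrime] (x y : R)
      (h : algebraMap R (Localization.AtPrime p) x ∣ algebraMap R (Localization.AtPrime p) y) :
      ∃ w, w ∉ p ∧ x ∣ w * y := by
    obtain ⟨v, hv⟩ := h
    obtain ⟨⟨v₀, s⟩, hs⟩ := IsLocalization.surj p.primeCompl v
    have h1 : algebraMap R (Localization.AtPrime p) (y * s) = algebraMap R _ (x * v₀) := by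
      rw [map_mul, map_mul, hv, ← hs, mul_assoc]
    obtain ⟨c, hc⟩ := IsLocalization.exists_of_eq (M := p.primeCompl) h1
    exact ⟨c * s, p.primeCompl.mul_mem c.2 s.2, c * v₀, by linear_combination hc⟩

/-- `(S₂)` passes from the extended Rees algebra to the Rees algebra. -/
theorem rees_sk_two [Nontrivial A] (hfg : Algebra.FiniteType A 𝓕.rees) (hht : 2 ≤ (𝓕.F 1).height)
    (h : LocCoh.HasSk 2 𝓕.extRees 𝓕.extRees) : LocCoh.HasSk 2 𝓕.rees 𝓕.rees := by
  haveI := isNoetherianRing_extRees 𝓕 hfg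
  haveI : IsNoetherianRing 𝓕.rees := Algebra.FiniteType.isNoetherianRing A _
  rw [GeomRedFibLib.hasSk_iff] at h ⊢
  have hA : RingP (SkLoc 2) A :=
    ringP_of_laurent (isFlatLocalProp_skLoc 2) (ringP_laurent_of_extRees 𝓕 (isFlatLocalProp_skLoc 2) h)
  intro P _
  by_cases hmon : ∀ (n : ℕ) (a : A) (ha : a ∈ 𝓕.F n), 0 < n → (⟨_, monomial_mem 𝓕 n a ha⟩ : 𝓕.rees) ∈ P
  · by_cases hF : 𝓕.F 1 ≤ P.comap (algebraMap A 𝓕.rees)
    · exact skLoc_of_over 𝓕 hfg hA h P (hht.trans (Ideal.height_mono hF)) hmon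
    · obtain ⟨a, ha, haP⟩ := Set.not_subset.1 hF
      exact skLoc_of_base_notMem 𝓕 hA P a ha haP
  · push Not at hmon
    obtain ⟨n, a, ha, hn, hP⟩ := hmon
    exact skLoc_of_monomial_notMem 𝓕 hfg h P n hn a ha hP

end ExtReesLib
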