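import Groth.Agent.ExtReesLib.Local
import Groth.Agent.SMTLib.NagataUFD
import Mathlib.RingTheory.UniqueFactorizationDomain.Kaplansky
import Mathlib.RingTheory.Polynomial.UniqueFactorization
import Mathlib.RingTheory.Polynomial.Basic

/-! # Factorial extended Rees algebras -/

set_option autoImplicit false
set_option backward.isDefEq.respectTransparency false
set_option backward.isDefEq.respectTransparency.types false

universe u

open LaurentPolynomial

namespace ExtReesLib

/-- Localisations of factorial domains are factorial. -/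
theorem ufd_of_isLocalization {R : Type u} [CommRing R] [IsDomain R] [UniqueFactorizationMonoid R]
    (M : Submonoid R) (hM : M ≤ nonZeroDivisors R) (L : Type u) [CommRing L] [IsDomain L] [Algebra R L]
    [IsLocalization M L] : UniqueFactorizationMonoid L := by
  refine UniqueFactorizationMonoid.iff_exists_prime_mem_of_isPrime.2 fun I hI hp => ?_
  haveI := hp
  have hI' : I.comap (algebraMap R L) ≠ ⊥ := fun h => hI
    ((IsLocalization.map_comap M L I).symm.trans ((congrArg (Ideal.map (algebraMap R L)) h).trans Ideal.map_bot))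
  obtain ⟨p, hpI, hprime⟩ := UniqueFactorizationMonoid.iff_exists_prime_mem_of_isPrime.1 inferInstance _ hI'
    (Ideal.IsPrime.comap _)
  haveI : (Ideal.span {p}).IsPrime := (Ideal.span_singleton_prime hprime.ne_zero).2 hprime
  have hdisj : Disjoint (M : Set R) (Ideal.span {p} : Ideal R) := Set.disjoint_left.2 fun x hx hxp =>
    hp.ne_top (Ideal.eq_top_of_isUnit_mem _ (Ideal.mem_comap.1 ((Ideal.span_singleton_le_iff_mem _).2 hpI hxp))
      (IsLocalization.map_units L ⟨x, hx⟩))
  have h := IsLocalization.isPrime_of_isPrime_disjoint M L (Ideal.span {p}) inferInstance hdisj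
  rw [Ideal.map_span, Set.image_singleton] at h
  exact ⟨_, Ideal.mem_comap.1 hpI, (Ideal.span_singleton_prime
    ((map_ne_zero_iff _ (IsLocalization.injective L hM)).2 hprime.ne_zero)).1 h⟩

variable {A : Type u} [CommRing A] [IsDomain A]

theorem ufd_of_ufd_polynomial [UniqueFactorizationMonoid (Polynomial A)] : UniqueFactorizationMonoid A := by
  refine UniqueFactorizationMonoid.of_exists_prime_factors fun a ha => ?_
  obtain ⟨f, hf, w, hw⟩ := UniqueFactorizationMonoid.exists_prime_factors (Polynomial.C a)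
    (Polynomial.C_ne_zero.2 ha)
  refine ⟨f.map (Polynomial.eval 0), fun b hb => ?_, ?_⟩
  · obtain ⟨q, hq, rfl⟩ := Multiset.mem_map.1 hb
    have hdvd : q ∣ Polynomial.C a := hw ▸ (Multiset.dvd_prod hq).mul_right _
    have hdeg : q.natDegree = 0 := Nat.le_zero.1
      ((Polynomial.natDegree_le_of_dvd hdvd (Polynomial.C_ne_zero.2 ha)).trans_eq (Polynomial.natDegree_C a))
    have hq' : q = Polynomial.C (q.eval 0) := by
      rw [← Polynomial.coeff_zero_eq_eval_zero]; exact Polynomial.eq_C_of_natDegree_eq_zero hdeg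
    exact Polynomial.prime_C_iff.1 (hq' ▸ hf q hq)
  · refine ⟨(w.map (Polynomial.evalRingHom (0 : A)).toMonoidHom), ?_⟩
    have := congrArg (Polynomial.evalRingHom (0 : A)) hw
    rw [map_mul, map_multiset_prod] at this
    simpa using this

theorem ufd_of_ufd_laurent [IsNoetherianRing A] [UniqueFactorizationMonoid A[T;T⁻¹]] :
    UniqueFactorizationMonoid A := by
  haveI : IsLocalization (Submonoid.closure {(Polynomial.X : Polynomial A)}) A[T;T⁻¹] := by
    rw [← Submonoid.powers_eq_closure]; exact LaurentPolynomial.isLocalization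
  haveI : UniqueFactorizationMonoid (Polynomial A) :=
    SMTLib.ufd_of_ufd_localization (fun a ha => WfDvdMonoid.exists_factors a ha)
      (fun p hp => by rw [Set.mem_singleton_iff.1 hp]; exact Polynomial.prime_X) A[T;T⁻¹]
  exact ufd_of_ufd_polynomial

theorem eq_C_mul_T_of_isUnit {f : A[T;T⁻¹]} (hf : IsUnit f) :
    ∃ (e : A) (m : ℤ), IsUnit e ∧ f = C e * T m := by
  obtain ⟨g, hg⟩ := hf.exists_right_inv
  obtain ⟨n, p, hp⟩ := exists_T_pow f
  obtain ⟨k, q, hq⟩ := exists_T_pow g
  have h1 : p * q = Polynomial.X ^ (n + k) := Polynomial.toLaurent_injective (by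
    rw [map_mul, hp, hq, Polynomial.toLaurent_X_pow, mul_mul_mul_comm, hg, one_mul, ← T_add, Nat.cast_add])
  obtain ⟨i, -, w, hw⟩ := (dvd_prime_pow Polynomial.prime_X _).1 ⟨q, h1.symm⟩
  obtain ⟨e, he, hew⟩ := Polynomial.isUnit_iff.1 (w⁻¹).isUnit
  refine ⟨e, (i : ℤ) - n, he, ?_⟩
  have h2 : p = Polynomial.C e * Polynomial.X ^ i := by
    rw [hew, ← hw, mul_comm, mul_assoc, Units.mul_inv, mul_one]
  have h3 : f * T n = C e * T i := by rw [← hp, h2, Polynomial.toLaurent_C_mul_X_pow]
  calc f = f * T n * T (-(n : ℤ)) := by rw [mul_assoc, ← T_add, add_neg_cancel, T_zero, mul_one]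
    _ = _ := by rw [h3, mul_assoc, ← T_add, sub_eq_add_neg]

variable (𝓕 : FiltBl.IdealFiltration A)

theorem coeff_mem_of_C_mul_T_mem {a : A} {m : ℤ} (h : (C a * T m : A[T;T⁻¹]) ∈ 𝓕.extRees) :
    a ∈ 𝓕.F m.toNat := by
  have := h m
  rwa [← single_eq_C_mul_T, AddMonoidAlgebra.coeff_single, Finsupp.single_eq_same] at this

theorem irreducible_u (hF : 𝓕.F 1 ≠ ⊤) : Irreducible 𝓕.u := by
  have htop : ∀ (e : A) (m : ℤ), IsUnit e → (C e * T m : A[T;T⁻¹]) ∈ 𝓕.extRees → m ≤ 0 := by
    intro e m he h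
    by_contra hm
    exact hF (Ideal.eq_top_of_isUnit_mem _ (𝓕.antitone (show 1 ≤ m.toNat by omega) (coeff_mem_of_C_mul_T_mem 𝓕 h)) he)
  have hzero : ∀ (x : 𝓕.extRees) (e : A), IsUnit e → (x : A[T;T⁻¹]) = C e * T 0 → IsUnit x := by
    intro x e he hx
    have : x = algebraMap A 𝓕.extRees e := Subtype.ext (by rw [hx, T_zero, mul_one]; rfl)
    rw [this]; exact he.map _
  constructor
  · intro h
    obtain ⟨g, hg⟩ := h.exists_right_inv
    have h1 : (T (-1) : A[T;T⁻¹]) * g = 1 := congrArg Subtype.val hg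
    have h2 : (g : A[T;T⁻¹]) = C 1 * T 1 := by
      calc (g : A[T;T⁻¹]) = T 1 * (T (-1) * (g : A[T;T⁻¹])) := by rw [← mul_assoc, ← T_add]; simp
        _ = _ := by rw [h1]; simp
    exact absurd (htop 1 1 isUnit_one (h2 ▸ g.2)) (by norm_num)
  · intro x y hxy
    have h1 : (T (-1) : A[T;T⁻¹]) = x * y := congrArg Subtype.val hxy
    have hu : IsUnit ((x : A[T;T⁻¹]) * y) := h1 ▸ isUnit_T _
    obtain ⟨e, m, he, hx⟩ := eq_C_mul_T_of_isUnit (isUnit_of_mul_isUnit_left hu)
    obtain ⟨e', m', he', hy⟩ := eq_C_mul_T_of_isUnit (isUnit_of_mul_isUnit_right hu)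
    have h2 : m + m' = -1 := by
      rw [hx, hy, mul_mul_mul_comm, ← map_mul, ← T_add, ← single_eq_C_mul_T] at h1
      have h3 : Finsupp.single (-1 : ℤ) (1 : A) = Finsupp.single (m + m') (e * e') := congrArg AddMonoidAlgebra.coeff h1
      exact ((Finsupp.single_eq_single_iff _ _ _ _).1 h3).elim (fun h => h.1.symm) fun h => absurd h.1 one_ne_zero
    have hm := htop e m he (hx ▸ x.2)
    have hm' := htop e' m' he' (hy ▸ y.2)
    by_cases h0 : m = 0
    · exact Or.inl (hzero x e he (h0 ▸ hx))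
    · exact Or.inr (hzero y e' he' ((show m' = 0 by omega) ▸ hy))

/-- The extended Rees algebra is factorial iff the base is and the associated graded ring is a domain. -/
theorem ufd_iff [IsNoetherianRing A] [IsDomain 𝓕.extRees] (hfg : Algebra.FiniteType A 𝓕.rees) (hF : 𝓕.F 1 ≠ ⊤) :
    UniqueFactorizationMonoid 𝓕.extRees ↔ (UniqueFactorizationMonoid A ∧ IsDomain 𝓕.Gr) := by
  haveI := isNoetherianRing_extRees 𝓕 hfg
  haveI := isLocalization_laurent 𝓕
  haveI : IsLocalization (Submonoid.closure {𝓕.u}) A[T;T⁻¹] := by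
    rw [← Submonoid.powers_eq_closure]; exact isLocalization_laurent 𝓕
  have hirr := irreducible_u 𝓕 hF
  have hgr : IsDomain 𝓕.Gr ↔ Prime 𝓕.u :=
    (Ideal.Quotient.isDomain_iff_prime _).trans (Ideal.span_singleton_prime hirr.ne_zero)
  rw [hgr]
  constructor
  · intro h
    have hu : Prime 𝓕.u := UniqueFactorizationMonoid.irreducible_iff_prime.1 hirr
    haveI : UniqueFactorizationMonoid A[T;T⁻¹] :=
      ufd_of_isLocalization (Submonoid.powers 𝓕.u) (powers_le_nonZeroDivisors_of_noZeroDivisors hu.ne_zero) _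
    exact ⟨ufd_of_ufd_laurent, hu⟩
  · rintro ⟨hA, hu⟩
    haveI := hA
    haveI : IsLocalization (Submonoid.powers (Polynomial.X : Polynomial A)) A[T;T⁻¹] :=
      LaurentPolynomial.isLocalization
    haveI : UniqueFactorizationMonoid A[T;T⁻¹] := ufd_of_isLocalization
      (Submonoid.powers (Polynomial.X : Polynomial A))
      (powers_le_nonZeroDivisors_of_noZeroDivisors Polynomial.X_ne_zero) _
    exact SMTLib.ufd_of_ufd_localization (fun a ha => WfDvdMonoid.exists_factors a ha)
      (fun p hp => by rw [Set.mem_singleton_iff.1 hp]; exact hu) A[T;T⁻¹]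

end ExtReesLib
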