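import Groth.Prelude.Def_W4c2filtblowupsingRees
import Mathlib.RingTheory.Valuation.Basic
import Mathlib.RingTheory.IntegralClosure.IntegrallyClosed
import Mathlib.RingTheory.Polynomial.Basic
import Mathlib.RingTheory.Polynomial.IsIntegral

/-! # Rees algebras of filtrations by valuations are normal -/

set_option autoImplicit false
set_option backward.isDefEq.respectTransparency false
set_option backward.isDefEq.respectTransparency.types false

universe u

open Polynomial

namespace ExtReesLib.ValRees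

variable {A K : Type u} [CommRing A] [Field K] [Algebra A K] (w : AddValuation K (WithTop ℤ)) (p : ℤ)

local notation "V" => fun x => w (algebraMap A K x)

/-- All weighted coefficients have value at least `c`. -/
def Ge (c : ℤ) (f : A[X]) : Prop := ∀ k : ℕ, ((c + k * p : ℤ) : WithTop ℤ) ≤ w (algebraMap A K (f.coeff k))

/-- The weight `c` is attained first in degree `k₀`. -/
def Exact (c : ℤ) (k₀ : ℕ) (f : A[X]) : Prop :=
  Ge w p c f ∧ w (algebraMap A K (f.coeff k₀)) = ((c + k₀ * p : ℤ) : WithTop ℤ) ∧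
    ∀ k < k₀, ((c + k * p : ℤ) : WithTop ℤ) < w (algebraMap A K (f.coeff k))

variable {w p}

theorem Ge.mul {c d : ℤ} {f g : A[X]} (hf : Ge w p c f) (hg : Ge w p d g) : Ge w p (c + d) (f * g) := fun k => by
  rw [coeff_mul, map_sum]
  refine w.map_le_sum fun ij hij => ?_
  have h : (ij.1 : ℤ) + ij.2 = k := by exact_mod_cast Finset.mem_antidiagonal.1 hij
  rw [map_mul, w.map_mul, show c + d + k * p = (c + ij.1 * p) + (d + ij.2 * p) by rw [← h]; ring, WithTop.coe_add]
  exact add_le_add (hf _) (hg _)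

theorem Ge.sum {ι : Type*} {c : ℤ} {s : Finset ι} {f : ι → A[X]} (hf : ∀ i ∈ s, Ge w p c (f i)) :
    Ge w p c (∑ i ∈ s, f i) := fun k => by
  rw [finsetSum_coeff, map_sum]
  exact w.map_le_sum fun i hi => hf i hi k

theorem Exact.one : Exact w p 0 0 (1 : A[X]) := by
  refine ⟨fun k => ?_, by simp, fun k hk => absurd hk (Nat.not_lt_zero k)⟩
  rw [coeff_one]
  split_ifs with h
  · subst h; simp
  · simp

theorem Exact.mul {c d : ℤ} {k₀ l₀ : ℕ} {f g : A[X]} (hf : Exact w p c k₀ f) (hg : Exact w p d l₀ g) :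
    Exact w p (c + d) (k₀ + l₀) (f * g) := by
  have key : ∀ i j : ℕ, i < k₀ ∨ j < l₀ → ((c + d + ((i + j : ℕ) : ℤ) * p : ℤ) : WithTop ℤ) <
      w (algebraMap A K (f.coeff i * g.coeff j)) := fun i j h => by
    rw [map_mul, w.map_mul, show c + d + ((i + j : ℕ) : ℤ) * p = (c + i * p) + (d + j * p) by push_cast; ring,
      WithTop.coe_add]
    rcases h with h | h
    · exact (WithTop.add_lt_add_right WithTop.coe_ne_top (hf.2.2 i h)).trans_le (add_le_add_right (hg.1 j) _)
    · exact (WithTop.add_lt_add_left WithTop.coe_ne_top (hg.2.2 j h)).trans_le (add_le_add_left (hf.1 i) _)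
  refine ⟨hf.1.mul hg.1, ?_, fun k hk => ?_⟩
  · classical
    rw [coeff_mul, ← Finset.add_sum_erase _ _ (Finset.mem_antidiagonal.2 (rfl : (k₀, l₀).1 + (k₀, l₀).2 = _)), map_add]
    have hmain : w (algebraMap A K (f.coeff k₀ * g.coeff l₀)) = ((c + d + ((k₀ + l₀ : ℕ) : ℤ) * p : ℤ) : WithTop ℤ) := by
      rw [map_mul, w.map_mul, hf.2.1, hg.2.1, ← WithTop.coe_add]
      congr 1; push_cast; ring
    rw [w.map_add_eq_of_lt_left]
    · exact hmain
    · rw [hmain, map_sum]
      refine w.map_lt_sum WithTop.coe_ne_top fun ij hij => ?_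
      obtain ⟨hne, hij⟩ := Finset.mem_erase.1 hij
      have h := Finset.mem_antidiagonal.1 hij
      rw [← h]
      refine key ij.1 ij.2 ?_
      by_contra hc
      push Not at hc
      exact hne (Prod.ext (by omega) (by omega))
  · rw [coeff_mul, map_sum]
    refine w.map_lt_sum WithTop.coe_ne_top fun ij hij => ?_
    have h := Finset.mem_antidiagonal.1 hij
    rw [← h]
    exact key ij.1 ij.2 (by omega)

theorem Exact.pow {c : ℤ} {k₀ : ℕ} {f : A[X]} (hf : Exact w p c k₀ f) :
    ∀ n : ℕ, Exact w p (n * c) (n * k₀) (f ^ n)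
  | 0 => by simpa using (Exact.one (w := w) (p := p))
  | n + 1 => by
      have := (Exact.pow hf n).mul hf
      rwa [← pow_succ, show (n : ℤ) * c + c = ((n + 1 : ℕ) : ℤ) * c by push_cast; ring,
        show n * k₀ + k₀ = (n + 1) * k₀ by ring] at this

theorem ge_zero_of_isIntegral {R : Subalgebra A A[X]} (hR : ∀ r ∈ R, Ge w p 0 r) {g : A[X]} (hg : IsIntegral R g) :
    Ge w p 0 g := by
  classical
  by_contra hcon
  simp only [Ge, not_forall, not_le, zero_add] at hcon
  obtain ⟨k₁, hk₁⟩ := hcon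
  have hne : g ≠ 0 := fun h => by simp [h] at hk₁
  -- the weight of a coefficient
  let wt : ℕ → ℤ := fun k => (w (algebraMap A K (g.coeff k))).untopD 0 - k * p
  let S := g.support.filter fun k => w (algebraMap A K (g.coeff k)) ≠ ⊤
  have hk₁S : k₁ ∈ S := Finset.mem_filter.2 ⟨mem_support_iff.2 fun h => by simp [h] at hk₁, ne_top_of_lt hk₁⟩
  obtain ⟨k₂, hk₂S, hk₂⟩ := S.exists_min_image wt ⟨k₁, hk₁S⟩
  obtain ⟨c, hc⟩ : ∃ c, wt k₂ = c := ⟨_, rfl⟩
  have hge : ∀ k : ℕ, ((c + k * p : ℤ) : WithTop ℤ) ≤ w (algebraMap A K (g.coeff k)) := fun k => by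
    by_cases hk : k ∈ S
    · obtain ⟨e, he⟩ := WithTop.ne_top_iff_exists.1 (Finset.mem_filter.1 hk).2
      rw [← he, WithTop.coe_le_coe]
      have := hk₂ k hk
      rw [hc] at this
      simp only [wt, ← he, WithTop.untopD_coe] at this
      omega
    · have : w (algebraMap A K (g.coeff k)) = ⊤ := by
        by_cases hs : k ∈ g.support
        · by_contra h; exact hk (Finset.mem_filter.2 ⟨hs, h⟩)
        · rw [notMem_support_iff.1 hs]; simp
      rw [this]; exact le_top
  have hneg : c < 0 := by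
    obtain ⟨e, he⟩ := WithTop.ne_top_iff_exists.1 (Finset.mem_filter.1 hk₁S).2
    rw [← he, WithTop.coe_lt_coe] at hk₁
    have := hk₂ k₁ hk₁S
    simp only [hc, wt, ← he, WithTop.untopD_coe] at this
    omega
  have hex : ∃ k : ℕ, w (algebraMap A K (g.coeff k)) = ((c + k * p : ℤ) : WithTop ℤ) := by
    obtain ⟨e, he⟩ := WithTop.ne_top_iff_exists.1 (Finset.mem_filter.1 hk₂S).2
    refine ⟨k₂, ?_⟩
    rw [← he]; congr 1
    simp only [wt, ← he, WithTop.untopD_coe] at hc
    omega
  have hexact : Exact w p c (Nat.find hex) g :=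
    ⟨hge, Nat.find_spec hex, fun k hk => lt_of_le_of_ne (hge k) (Ne.symm (Nat.find_min hex hk))⟩
  obtain ⟨P, hP, hP0⟩ := hg
  let n := P.natDegree
  have hsum : g ^ n = -∑ j ∈ Finset.range n, (P.coeff j : A[X]) * g ^ j := by
    rw [eval₂_eq_sum_range, Finset.sum_range_succ, hP.coeff_natDegree, map_one, one_mul] at hP0
    exact eq_neg_of_add_eq_zero_right hP0
  have h1 : Ge w p ((n : ℤ) * c + 1) (g ^ n) := by
    rw [hsum]
    intro k
    rw [coeff_neg, map_neg, w.map_neg]
    refine Ge.sum (fun j hj => ?_) k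
    have hj' : (j : ℤ) + 1 ≤ n := by exact_mod_cast Finset.mem_range.1 hj
    intro l
    refine le_trans (WithTop.coe_le_coe.2 ?_) (((hR _ (P.coeff j).2).mul (hexact.pow j).1) l)
    nlinarith
  have h2 := (hexact.pow n).2.1
  have h3 := h1 (n * Nat.find hex)
  rw [h2, WithTop.coe_le_coe] at h3
  omega

end ExtReesLib.ValRees

namespace ExtReesLib

theorem isIntegrallyClosed_rees_of_valuations (A K : Type u) [CommRing A] [IsDomain A]
    [IsIntegrallyClosed A] [Field K] [Algebra A K]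
    (ι : Type) (v : ι → AddValuation K (WithTop ℤ)) (p q : ι → ℕ) (hq : ∀ i, 0 < q i)
    (𝓕 : FiltBl.IdealFiltration A)
    (hF : ∀ (k : ℕ) (x : A), x ∈ 𝓕.F k ↔
      ∀ i, ((k * p i : ℕ) : WithTop ℤ) ≤ (q i : WithTop ℤ) * v i (algebraMap A K x)) :
    IsIntegrallyClosed 𝓕.rees := by
  let f : ι → (WithTop ℤ →+ WithTop ℤ) := fun i => (AddMonoidHom.mulLeft (q i : ℤ)).withTopMap
  have hf : ∀ i (x : WithTop ℤ), f i x = (q i : WithTop ℤ) * x := fun i x => by
    induction x with
    | top => rw [WithTop.mul_top (by exact_mod_cast (hq i).ne')]; rfl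
    | coe a => rw [show (q i : WithTop ℤ) = ((q i : ℤ) : WithTop ℤ) from rfl, ← WithTop.coe_mul]; rfl
  let w : ι → AddValuation K (WithTop ℤ) := fun i => (v i).map (f i) rfl
    (WithTop.monotone_map_iff.2 fun a b h => mul_le_mul_of_nonneg_left h (Int.natCast_nonneg _))
  have hmem : ∀ r : A[X], r ∈ 𝓕.rees ↔ ∀ i, ValRees.Ge (w i) (p i : ℤ) 0 r := fun r => by
    refine ⟨fun hr i k => ?_, fun hr k => (hF k _).2 fun i => ?_⟩
    · show _ ≤ f i (v i _)
      rw [hf, zero_add]
      exact le_trans (le_of_eq rfl) ((hF k _).1 (hr k) i)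
    · have := hr i k
      change _ ≤ f i (v i _) at this
      rw [hf, zero_add] at this
      exact le_trans (le_of_eq rfl) this
  have hin : ∀ g : A[X], IsIntegral 𝓕.rees g → g ∈ 𝓕.rees := fun g hg => (hmem g).2 fun i =>
    ValRees.ge_zero_of_isIntegral (fun r hr => (hmem r).1 hr i) hg
  rw [isIntegrallyClosed_iff (FractionRing 𝓕.rees)]
  intro x hx
  let L := FractionRing A[X]
  have hinj : Function.Injective (algebraMap 𝓕.rees L) := by
    rw [IsScalarTower.algebraMap_eq 𝓕.rees A[X] L]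
    exact (IsFractionRing.injective A[X] L).comp Subtype.val_injective
  let φ : FractionRing 𝓕.rees →ₐ[𝓕.rees] L :=
    IsFractionRing.liftAlgHom (g := Algebra.ofId 𝓕.rees L) hinj
  have h1 : IsIntegral A[X] (φ x) := (hx.map φ).tower_top
  obtain ⟨g, hg⟩ := IsIntegrallyClosed.isIntegral_iff.1 h1
  have h2 : IsIntegral 𝓕.rees g := by
    refine (isIntegral_algHom_iff (IsScalarTower.toAlgHom 𝓕.rees A[X] L) (IsFractionRing.injective A[X] L)).1 ?_
    show IsIntegral 𝓕.rees (algebraMap A[X] L g)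
    rw [hg]; exact hx.map φ
  refine ⟨⟨g, hin g h2⟩, φ.toRingHom.injective ?_⟩
  show φ (algebraMap 𝓕.rees _ ⟨g, hin g h2⟩) = φ x
  rw [AlgHom.commutes, ← hg]
  exact IsScalarTower.algebraMap_apply 𝓕.rees A[X] L ⟨g, hin g h2⟩

end ExtReesLib
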